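import Mathlib.AlgebraicGeometry.Morphisms.Flat
import Mathlib.AlgebraicGeometry.Morphisms.Proper
import Mathlib.Algebra.Module.Projective
import Mathlib.RingTheory.Finiteness.Basic

/-!
# Cohomologically flat morphisms in degree zero, strong form

`CF f` for `f : X ⟶ S` (used for affine `S`): `f` is flat, `Γ(X)` is finite projective over `Γ(S)` and
`Γ(X ×_S T) = Γ(X) ⊗_{Γ(S)} Γ(T)` for every affine `T ⟶ S`.
-/

set_option autoImplicit false
universe u

open CategoryTheory CategoryTheory.Limits AlgebraicGeometry

namespace Groth.Agent.Pic13.H943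

/-- `f` is flat, `Γ(X)` is finite projective over `Γ(S)`, and its formation commutes with every base change
`T ⟶ S` with `T` affine. -/
structure CF {X S : Scheme.{u}} (f : X ⟶ S) : Prop where
  flat : Flat f
  fin : f.appTop.hom.Finite
  proj : letI : Algebra Γ(S, ⊤) Γ(X, ⊤) := f.appTop.hom.toAlgebra
    Module.Projective Γ(S, ⊤) Γ(X, ⊤)
  push : ∀ T : Over S, IsAffine T.left →
    IsPushout f.appTop T.hom.appTop (pullback.fst f T.hom).appTop (pullback.snd f T.hom).appTop

end Groth.Agent.Pic13.H943
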