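import Groth.Agent.Pic13.H943.ExistsCFN
import Groth.Agent.Pic13.H943.CF
import Groth.Agent.Fdesc.StructMod
import Groth.Agent.Flat2G.CohDescent
import Groth.Agent.CurvesC.UnitCoh

/-!
# Existence of a good shrinking of the base for a proper scheme

`exists_cf`: for `f` proper over `S` Noetherian integral there is a nonempty open `V` of `S` such that `CF` holds over
all affine opens of `V`.
-/

set_option autoImplicit false
universe u
open CategoryTheory CategoryTheory.Limits AlgebraicGeometry Opposite TopologicalSpace TensorProduct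

namespace Groth.Agent.Pic13.H943

open FlatBC ModH Groth.Agent.VarietyB.FlatH0 Groth.Agent.VarietyB.BCAlg

theorem flat_of_isFlatOver {X S : Scheme.{u}} (f : X ⟶ S) (h : FlatMod.IsFlatOver f (Coh.structureModule X)) :
    Flat f := by
  rw [Flat.iff_flat_stalkMap]
  intro x
  let a1 : Module (S.presheaf.stalk (f x)) (X.presheaf.stalk x) :=
    Module.compHom (X.presheaf.stalk x) (f.stalkMap x).hom
  let a2 := FlatMod.moduleStalkOver f (Coh.structureModule X) x
  have h1 : Module.Flat (S.presheaf.stalk (f x)) ((Coh.structureModule X).presheaf.stalk x) := h x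
  let e : X.presheaf.stalk x ≃ₗ[S.presheaf.stalk (f x)] (Coh.structureModule X).presheaf.stalk x :=
    { Groth.Agent.Fdesc.StructMod.stalkEquiv x with
      map_smul' := fun r m => (Groth.Agent.Fdesc.StructMod.stalkEquiv x).map_smul ((f.stalkMap x).hom r) m }
  exact Module.Flat.of_linearEquiv e

/-- `H^0(X, O) = Γ(X)`, over the base. -/
theorem exists_h0 {X S : Scheme.{u}} (f : X ⟶ S) :
    letI : Algebra Γ(S, ⊤) Γ(X, ⊤) := f.appTop.hom.toAlgebra
    letI := modH f (Coh.structureModule X) 0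
    Nonempty (Coh.HH X (Coh.structureModule X) 0 ≃ₗ[Γ(S, ⊤)] Γ(X, ⊤)) := by
  let i1 : Algebra Γ(S, ⊤) Γ(X, ⊤) := f.appTop.hom.toAlgebra
  let i2 := modH f (Coh.structureModule X) 0
  let e : Coh.HH X (Coh.structureModule X) 0 ≃+ Γ(Coh.structureModule X, ⊤) :=
    Sheaf.H.equiv₀ (Coh.toAb (Coh.structureModule X)) (isTerminalTop : IsTerminal (⊤ : Opens X))
  have he : ∀ (r : Γ(S, ⊤)) (x : Coh.HH X (Coh.structureModule X) 0),
      e (r • x) = (Coh.smulAb (Coh.structureModule X) (f.appTop r)).hom.app (op ⊤) (e x) := fun r x =>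
    (Sheaf.H.equiv₀_naturality isTerminalTop (Coh.smulAb (Coh.structureModule X) (f.appTop r)) x).symm
  let e2 : Coh.HH X (Coh.structureModule X) 0 ≃+ Γ(X, ⊤) := e
  refine ⟨e2.toLinearEquiv (fun r x => (he r x).trans ?_)⟩
  rw [Coh.smulAb_app]
  have h1 : Coh.resTop X (op ⊤) (f.appTop r) = f.appTop r := by
    have : (homOfLE (le_top : (⊤ : X.Opens) ≤ ⊤)).op = 𝟙 (op ⊤) := rfl
    change X.presheaf.map _ _ = _
    rw [this]
    simp
  rw [h1]
  rfl

theorem CFN.cf {X S : Scheme.{u}} {f : X ⟶ S} [IsAffine S] [QuasiCompact f] [IsSeparated f]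
    (h : CFN f (Coh.structureModule X)) : CF f where
  flat := flat_of_isFlatOver f h.flat
  fin := by
    let i1 : Algebra Γ(S, ⊤) Γ(X, ⊤) := f.appTop.hom.toAlgebra
    let i2 := modH f (Coh.structureModule X) 0
    obtain ⟨e⟩ := exists_h0 f
    have := h.fin 0
    exact Module.Finite.equiv e
  proj := by
    let i1 : Algebra Γ(S, ⊤) Γ(X, ⊤) := f.appTop.hom.toAlgebra
    let i2 := modH f (Coh.structureModule X) 0
    obtain ⟨e⟩ := exists_h0 f
    have := h.proj 0
    exact Module.Projective.of_equiv e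
  push := fun T hT => by
    have := hT
    exact Groth.Agent.Flat2G.CohDescent.isPushout_appTop_of_isBC (IsPullback.of_hasPullback f T.hom)
      (isBC_of_flat (IsPullback.of_hasPullback f T.hom) (Coh.structureModule X) h.coh.1 h.flat h.flatH)

/-- (SH-O) -/
theorem exists_cf {X S : Scheme.{u}} (f : X ⟶ S) [IsProper f] [IsLocallyNoetherian S] [IsIntegral S] :
    ∃ V : S.Opens, (V : Set S).Nonempty ∧ ∀ V' : S.Opens, V' ≤ V → IsAffineOpen V' →
      CF (pullback.snd f V'.ι) := by
  obtain ⟨V, hV, h⟩ := exists_cfn f (Coh.structureModule X) (Groth.Agent.CurvesC.UnitCoh.isCoh_unit X)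
  refine ⟨V, hV, fun V' hV' ha => ?_⟩
  have : IsAffine (V' : Scheme.{u}) := ha
  exact ((h V' hV' ha).congr (asIso (Groth.Agent.Fga.UnitRestrict.pullbackUnitHom (pullback.fst f V'.ι)))).cf

/-- Finitely many conditions at once. -/
theorem exists_opens_finite {ι : Type*} [Finite ι] {S : Scheme.{u}} [IsIntegral S]
    (P : ι → S.Opens → Prop)
    (h : ∀ i, ∃ V : S.Opens, (V : Set S).Nonempty ∧ ∀ V' : S.Opens, V' ≤ V → IsAffineOpen V' → P i V') :
    ∃ V : S.Opens, (V : Set S).Nonempty ∧ ∀ V' : S.Opens, V' ≤ V → IsAffineOpen V' → ∀ i, P i V' := by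
  choose V hV hP using h
  let W : S.Opens := ⟨⋂ i, (V i : Set S), isOpen_iInter_of_finite fun i => (V i).2⟩
  refine ⟨W, ⟨genericPoint S, Set.mem_iInter.mpr fun i => ?_⟩, fun V' hV' ha i =>
    hP i V' (hV'.trans fun x hx => Set.mem_iInter.mp hx i) ha⟩
  exact ((genericPoint_spec S).mem_open_set_iff (V i).isOpen).mpr (by simpa using hV i)

end Groth.Agent.Pic13.H943
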