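import Groth.Agent.Ega3B.FlatCxEquiv
import Groth.Agent.VarietyB.BCAlg

/-!
# The base change map on cohomology of a bounded flat complex with flat cohomology

`exists_beta`: `C` a bounded complex of flat `A`-modules with flat cohomology, `s : C → C'` a semilinear map over
`A → B` with `B ⊗ C = C'`.  Then the induced map `H^p(C) → H^p(C')` induces `B ⊗ H^p(C) = H^p(C')`.
-/

set_option autoImplicit false
universe u
open TensorProduct

namespace Groth.Agent.Pic13.H943.BetaAlg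

open Groth.Agent.VarietyB.BCAlg Groth.Agent.Ega3B

variable {A : Type u} [CommRing A] {C : ℕ → Type u} [∀ n, AddCommGroup (C n)]
  [∀ n, Module A (C n)] {d : ∀ n, C n →ₗ[A] C (n + 1)}

variable {B : Type u} [CommRing B] [Algebra A B] {C' : ℕ → Type u} [∀ n, AddCommGroup (C' n)]
  [∀ n, Module B (C' n)] {d' : ∀ n, C' n →ₗ[B] C' (n + 1)}
  (s : ∀ n, C n →ₛₗ[algebraMap A B] C' n) (hs : ∀ n x, d' n (s n x) = s (n + 1) (d n x))

/-- The semilinear map on cycles. -/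
def sZ (p : ℕ) : LinearMap.ker (d p) →ₛₗ[algebraMap A B] LinearMap.ker (d' p) :=
  ((s p).comp (LinearMap.ker (d p)).subtype).codRestrict (LinearMap.ker (d' p)) fun z => by
    rw [LinearMap.mem_ker, LinearMap.comp_apply, hs]
    have h : d p ((LinearMap.ker (d p)).subtype z) = 0 := z.2
    rw [h, map_zero]

@[simp] theorem sZ_coe (p : ℕ) (z : LinearMap.ker (d p)) : (sZ s hs p z : C' p) = s p z := rfl

theorem sZ_mem_bz (p : ℕ) (z : LinearMap.ker (d p)) (hz : z ∈ FlatCxB.bz d p) :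
    sZ s hs p z ∈ FlatCxB.bz d' p := by
  rw [FlatCxB.mem_bz] at hz ⊢
  cases p with
  | zero =>
    have h0 : (z : C 0) = 0 := (Submodule.mem_bot A).mp hz
    refine (Submodule.mem_bot B).mpr ?_
    rw [sZ_coe, h0, map_zero]
  | succ n =>
    obtain ⟨y, hy⟩ := hz
    refine ⟨s n y, ?_⟩
    rw [hs, hy, sZ_coe]

/-- The map induced on cohomology. -/
theorem exists_map (p : ℕ) {H H' : Type u} [AddCommGroup H] [Module A H] [AddCommGroup H'] [Module B H']
    (θ : LinearMap.ker (d p) →ₗ[A] H) (hθ : Function.Surjective θ)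
    (hθ0 : ∀ z, θ z = 0 ↔ z ∈ FlatCxB.bz d p)
    (θ' : LinearMap.ker (d' p) →ₗ[B] H')
    (hθ'0 : ∀ z, θ' z = 0 ↔ z ∈ FlatCxB.bz d' p) :
    ∃ β : H →ₛₗ[algebraMap A B] H', ∀ z, β (θ z) = θ' (sZ s hs p z) := by
  have h1 : ∀ z, θ z = 0 → θ' (sZ s hs p z) = 0 := fun z hz =>
    (hθ'0 _).mpr (sZ_mem_bz s hs p z ((hθ0 z).mp hz))
  let σ : LinearMap.ker (d p) →ₛₗ[algebraMap A B] H' := θ'.comp (sZ s hs p)
  let q := (LinearMap.ker θ).liftQ σ (fun z hz => h1 z hz)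
  let e := θ.quotKerEquivOfSurjective hθ
  refine ⟨q.comp e.symm.toLinearMap, fun z => ?_⟩
  have h2 : e.symm (θ z) = Submodule.Quotient.mk z := by
    rw [LinearEquiv.symm_apply_eq]
    rfl
  change q (e.symm (θ z)) = _
  rw [h2]
  rfl

variable (hd : ∀ p, d (p + 1) ∘ₗ d p = 0) (hC : ∀ p, Module.Flat A (C p))
  (hH : ∀ p, Module.Flat A (LinearMap.ker (d p) ⧸ FlatCxB.bz d p))
  (m : ℕ) (hm : ∀ p, m ≤ p → Subsingleton (C p))
  (hbc : ∀ n, Function.Bijective (bc (s n)))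

include hd hC hH hm hbc in
theorem bijective_of_map (p : ℕ) {H H' : Type u} [AddCommGroup H] [Module A H] [AddCommGroup H'] [Module B H']
    (θ : LinearMap.ker (d p) →ₗ[A] H) (hθ : Function.Surjective θ)
    (hθ0 : ∀ z, θ z = 0 ↔ z ∈ FlatCxB.bz d p)
    (θ' : LinearMap.ker (d' p) →ₗ[B] H') (hθ' : Function.Surjective θ')
    (hθ'0 : ∀ z, θ' z = 0 ↔ z ∈ FlatCxB.bz d' p)
    (β : H →ₛₗ[algebraMap A B] H') (hβ : ∀ z, β (θ z) = θ' (sZ s hs p z)) :
    Function.Bijective (bc β) := by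
  have h1 : ∀ x, θ' (bc (sZ s hs p) x) = bc β (θ.lTensor B x) :=
    bc_comm (sZ s hs p) β θ θ' fun z => (hβ z).symm
  have h2 : ∀ x, (LinearMap.ker (d' p)).subtype (bc (sZ s hs p) x) =
      bc (s p) ((LinearMap.ker (d p)).subtype.lTensor B x) :=
    bc_comm (sZ s hs p) (s p) (LinearMap.ker (d p)).subtype (LinearMap.ker (d' p)).subtype fun z => rfl
  constructor
  · rw [injective_iff_map_eq_zero]
    intro x hx
    obtain ⟨z, rfl⟩ := LinearMap.lTensor_surjective B hθ x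
    rw [← h1, hθ'0, FlatCxB.mem_bz] at hx
    rw [FlatCxB.lTensor_eq_zero_iff θ hθ hθ0]
    have h3 : (bc (sZ s hs p) z : C' p) = bc (s p) ((LinearMap.ker (d p)).subtype.lTensor B z) := h2 z
    cases p with
    | zero =>
      rw [FlatCxB.lTensor_mkQ_eq_zero_iff_zero hd hC hH m hm B]
      have h4 : (bc (sZ s hs 0) z : C' 0) = 0 := (Submodule.mem_bot B).mp hx
      apply (hbc 0).1
      rw [← h3, h4, map_zero]
    | succ n =>
      rw [FlatCxB.lTensor_mkQ_eq_zero_iff hd hC hH m hm B]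
      obtain ⟨y, hy⟩ := hx
      obtain ⟨w, rfl⟩ := (hbc n).2 y
      refine ⟨w, (hbc (n + 1)).1 ?_⟩
      rw [← bc_comm (s n) (s (n + 1)) (d n) (d' n) (hs n), hy, h3]
  · intro y
    obtain ⟨y, rfl⟩ := hθ' y
    obtain ⟨x, hx⟩ := (hbc p).2 y.1
    have h4 : (d p).lTensor B x = 0 := (hbc (p + 1)).1 (by
      rw [← bc_comm (s p) (s (p + 1)) (d p) (d' p) (hs p), hx, map_zero]
      exact y.2)
    obtain ⟨z, hz⟩ := FlatCxB.exists_of_lTensor_eq_zero hd hC hH m hm B p x h4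
    refine ⟨θ.lTensor B z, ?_⟩
    rw [← h1]
    congr 1
    apply Subtype.ext
    change (LinearMap.ker (d' p)).subtype (bc (sZ s hs p) z) = _
    rw [h2, hz, hx]

include hd hC hH hm hbc in
theorem exists_beta (p : ℕ) {H H' : Type u} [AddCommGroup H] [Module A H] [AddCommGroup H'] [Module B H']
    (θ : LinearMap.ker (d p) →ₗ[A] H) (hθ : Function.Surjective θ)
    (hθ0 : ∀ z, θ z = 0 ↔ z ∈ FlatCxB.bz d p)
    (θ' : LinearMap.ker (d' p) →ₗ[B] H') (hθ' : Function.Surjective θ')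
    (hθ'0 : ∀ z, θ' z = 0 ↔ z ∈ FlatCxB.bz d' p) :
    ∃ β : H →ₛₗ[algebraMap A B] H', (∀ z, β (θ z) = θ' (sZ s hs p z)) ∧ Function.Bijective (bc β) := by
  obtain ⟨β, hβ⟩ := exists_map s hs p θ hθ hθ0 θ' hθ'0
  exact ⟨β, hβ, bijective_of_map s hs hd hC hH m hm hbc p θ hθ hθ0 θ' hθ' hθ'0 β hβ⟩

end Groth.Agent.Pic13.H943.BetaAlg
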