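import Groth.Agent.Pic13.H943.FlatBC
import Groth.Agent.Pic13.H943.BetaAlg
import Groth.Agent.S0034
import Groth.Agent.S0002

/-!
# Cohomology as a module over the global functions of an affine base

`FlatBC.modH iX F p` is the `Γ(S, ⊤)`-module structure of `H^p(X, F)` for `iX : X ⟶ S`.  Finiteness for proper `iX`
(`finite_modH`), vanishing in high degrees (`exists_subsingleton_HH`), flat base change (`exists_flatBC`) and base change
for flat modules with flat cohomology (`exists_bc`), in this form.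
-/

set_option autoImplicit false
universe u
open CategoryTheory CategoryTheory.Limits AlgebraicGeometry Opposite TopologicalSpace TensorProduct

namespace Groth.Agent.Pic13.H943.ModH

open FlatBC Groth.Agent.Ega3B Groth.Agent.VarietyB.BCAlg

theorem toGlobal_isoSpec {X S : Scheme.{u}} (iX : X ⟶ S) [IsAffine S] :
    Coh.toGlobal (A := Γ(S, ⊤)) (iX ≫ S.isoSpec.hom) = iX.appTop.hom := by
  have h : (Scheme.ΓSpecIso (CommRingCat.of Γ(S, ⊤))).inv ≫ (iX ≫ S.isoSpec.hom).appTop = iX.appTop := by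
    rw [Scheme.Hom.comp_appTop, Scheme.isoSpec_hom, Scheme.toSpecΓ_appTop]
    exact Iso.inv_hom_id_assoc _ _
  exact congrArg CommRingCat.Hom.hom h

theorem modH_eq {X S : Scheme.{u}} (iX : X ⟶ S) [IsAffine S] (F : X.Modules) (p : ℕ) :
    letI : X.Over (Spec (CommRingCat.of Γ(S, ⊤))) := ⟨iX ≫ S.isoSpec.hom⟩
    Coh.moduleOver Γ(S, ⊤) X F p = modH iX F p :=
  congrArg (fun φ : Γ(S, ⊤) →+* Coh.Γtop X => Module.compHom (Coh.HH X F p) φ) (toGlobal_isoSpec iX)

/-- Finiteness of coherent cohomology for a proper scheme over an affine Noetherian base. -/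
theorem finite_modH {X S : Scheme.{u}} (iX : X ⟶ S) [IsAffine S] [IsNoetherianRing Γ(S, ⊤)]
    [IsProper iX] (F : X.Modules) (hF : Coh.IsCoh F) (p : ℕ) :
    letI := modH iX F p
    Module.Finite Γ(S, ⊤) (Coh.HH X F p) := by
  let _ : X.Over (Spec (CommRingCat.of Γ(S, ⊤))) := ⟨iX ≫ S.isoSpec.hom⟩
  have h1 : IsProper (X ↘ Spec (CommRingCat.of Γ(S, ⊤))) :=
    inferInstanceAs (IsProper (iX ≫ S.isoSpec.hom))
  have h2 := Groth.Agent.S0002.result Γ(S, ⊤) X F hF p
  rw [← modH_eq iX F p]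
  exact h2

/-- Vanishing in high degrees, uniformly in the quasi-coherent module. -/
theorem exists_subsingleton_HH (X : Scheme.{u}) [CompactSpace X] [X.IsSeparated] :
    ∃ m : ℕ, ∀ F : X.Modules, Coh.IsQCoh F → ∀ p, m ≤ p → Subsingleton (Coh.HH X F p) := by
  obtain ⟨n, U, hcov, hU⟩ := AcyclicBC.exists_cover X
  refine ⟨Fintype.card (Fin n), fun F hF p hp => ?_⟩
  have h1 := CechBC.subsingleton_C F U p hp
  let i1 := fun n => CechBC.modC (𝟙 X) F U n
  let i2 := modH (𝟙 X) F p
  obtain ⟨θ, h2, -⟩ := exists_theta (𝟙 X) F hF U hcov hU p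
  have h3 : Subsingleton (LinearMap.ker (CechBC.d (𝟙 X) F U p)) :=
    ⟨fun a b => Subtype.ext (h1.elim _ _)⟩
  exact h2.subsingleton

section FlatBaseChange

variable {X Y S T : Scheme.{u}} {f : T ⟶ S} {g : Y ⟶ X} {iX : X ⟶ S} {iY : Y ⟶ T}

/-- Flat base change. -/
theorem exists_flatBC (H : IsPullback g iY iX f) [IsAffine S] [IsAffine T] [QuasiCompact iX]
    [QuasiSeparated iX] [Flat f] (F : X.Modules) (hF : Coh.IsQCoh F) (p : ℕ) :
    letI : Algebra Γ(S, ⊤) Γ(T, ⊤) := f.appTop.hom.toAlgebra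
    letI := modH iX F p
    letI := modH iY ((Scheme.Modules.pullback g).obj F) p
    Nonempty (Γ(T, ⊤) ⊗[Γ(S, ⊤)] Coh.HH X F p ≃ₗ[Γ(T, ⊤)] Coh.HH Y ((Scheme.Modules.pullback g).obj F) p) := by
  let i1 : Algebra Γ(S, ⊤) Γ(T, ⊤) := f.appTop.hom.toAlgebra
  let i3 : X.Over (Spec (CommRingCat.of Γ(S, ⊤))) := ⟨iX ≫ S.isoSpec.hom⟩
  let i4 : Y.Over (Spec (CommRingCat.of Γ(T, ⊤))) := ⟨iY ≫ T.isoSpec.hom⟩
  have h1 : Module.Flat Γ(S, ⊤) Γ(T, ⊤) := by
    have := (HasRingHomProperty.iff_of_isAffine (P := @Flat) (f := f)).mp inferInstance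
    exact this
  have h2 : CompactSpace X := QuasiCompact.compactSpace_of_compactSpace iX
  have h3 : QuasiSeparatedSpace X := quasiSeparatedSpace_of_quasiSeparated iX
  have h4 : IsPullback g (Y ↘ Spec (CommRingCat.of Γ(T, ⊤))) (X ↘ Spec (CommRingCat.of Γ(S, ⊤)))
      (Spec.map (CommRingCat.ofHom (algebraMap Γ(S, ⊤) Γ(T, ⊤)))) := by
    have h5 : IsPullback f T.isoSpec.hom S.isoSpec.hom (Spec.map f.appTop) :=
      IsPullback.of_vert_isIso ⟨(Scheme.isoSpec_hom_naturality f).symm⟩
    exact H.paste_vert h5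
  have h6 := Groth.Agent.S0034.result Γ(S, ⊤) Γ(T, ⊤) X Y g h4 F p
  rw [← modH_eq iX F p, ← modH_eq iY _ p]
  exact h6

end FlatBaseChange

section Canonical

open Groth.Agent.Ega3B.CubeData Groth.Agent.Ega3B.CombRes Groth.Agent.Ega3B.Cube
  Groth.Agent.Ega3B.CechBC Groth.Agent.Ega3B.CechH0 Groth.Agent.Ega3B.AcyclicBC Groth.Agent.VarietyB.FlatH0
  Groth.Agent.VarietyB.BCAlg
open Groth.Agent.Fdesc

attribute [local instance 3000] LocExact.hasSheafify

variable {ι : Type} [LinearOrder ι] [Fintype ι]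

/-- Cocycles, additively. -/
noncomputable def kerAdd {X S : Scheme.{u}} (iX : X ⟶ S) (F : X.Modules) (U : ι → X.Opens) (p : ℕ) :
    letI := fun n => modC iX F U n
    LinearMap.ker (d iX F U p) →+ ((cech (X := X.toPresheafedSpace.carrier) U).δ p (Coh.toAb F).obj).ker :=
  letI := fun n => modC iX F U n
  { toFun := fun z => ⟨z.1, z.2⟩
    map_zero' := rfl
    map_add' := fun _ _ => rfl }

/-- The class of an ordered Čech cocycle, additively. -/
noncomputable def thetaA {X S : Scheme.{u}} (iX : X ⟶ S) (F : X.Modules) (U : ι → X.Opens)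
    (hcov : ⨆ i, U i = ⊤) (p : ℕ) :
    letI := fun n => modC iX F U n
    LinearMap.ker (d iX F U p) →+ Coh.HH X F p :=
  letI := fun n => modC iX F U n
  (CombRes.Data.θ (Coh.toAb F) (cech_locGood (X := X.toPresheafedSpace.carrier) U hcov) p).comp
    (kerAdd iX F U p)

theorem thetaA_smul {X S : Scheme.{u}} (iX : X ⟶ S) (F : X.Modules) (U : ι → X.Opens)
    (hcov : ⨆ i, U i = ⊤) (p : ℕ) :
    letI := fun n => modC iX F U n
    letI := modH iX F p
    ∀ (r : Γ(S, ⊤)) (z : LinearMap.ker (d iX F U p)),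
      thetaA iX F U hcov p (r • z) = r • thetaA iX F U hcov p z := by
  let i1 := fun n => modC iX F U n
  let i2 := modH iX F p
  intro r z
  exact CombRes.Data.θ_naturality (cech_locGood (X := X.toPresheafedSpace.carrier) U hcov) p
    (Coh.smulAb F (fn iX r)) (kerAdd iX F U p z)

/-- The class of an ordered Čech cocycle, linear over the functions of the base. -/
noncomputable def thetaL {X S : Scheme.{u}} (iX : X ⟶ S) (F : X.Modules) (U : ι → X.Opens)
    (hcov : ⨆ i, U i = ⊤) (p : ℕ) :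
    letI := fun n => modC iX F U n
    letI := modH iX F p
    LinearMap.ker (d iX F U p) →ₗ[Γ(S, ⊤)] Coh.HH X F p :=
  letI := fun n => modC iX F U n
  letI := modH iX F p
  { toFun := thetaA iX F U hcov p
    map_add' := (thetaA iX F U hcov p).map_add
    map_smul' := thetaA_smul iX F U hcov p }

theorem thetaL_surjective {X S : Scheme.{u}} (iX : X ⟶ S) (F : X.Modules) (hF : Coh.IsQCoh F)
    (U : ι → X.Opens) (hcov : ⨆ i, U i = ⊤)
    (hU : ∀ s : Finset ι, s.Nonempty → IsAffineOpen (s.inf U)) (p : ℕ) :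
    Function.Surjective (thetaL iX F U hcov p) := by
  intro x
  obtain ⟨z, hz⟩ := CombRes.Data.θ_surjective (cech_locGood (X := X.toPresheafedSpace.carrier) U hcov)
    (AcyclicBC.acyclic F U hF hU) p x
  exact ⟨⟨z.1, z.2⟩, hz⟩

theorem thetaL_eq_zero_iff {X S : Scheme.{u}} (iX : X ⟶ S) (F : X.Modules) (hF : Coh.IsQCoh F)
    (U : ι → X.Opens) (hcov : ⨆ i, U i = ⊤)
    (hU : ∀ s : Finset ι, s.Nonempty → IsAffineOpen (s.inf U)) (p : ℕ) :
    letI := fun n => modC iX F U n
    ∀ z : LinearMap.ker (d iX F U p),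
      thetaL iX F U hcov p z = 0 ↔ z ∈ FlatCxB.bz (C := fun n => C F U n) (d iX F U) p := by
  let i1 := fun n => modC iX F U n
  intro z
  have h := cech_locGood (X := X.toPresheafedSpace.carrier) U hcov
  cases p with
  | zero =>
    change thetaL iX F U hcov 0 z = 0 ↔ z.1 ∈ (⊥ : Submodule Γ(S, ⊤) (C F U 0))
    rw [Submodule.mem_bot]
    constructor
    · intro hz
      have := CombRes.Data.θ_zero_injective h (hz.trans (map_zero _).symm)
      exact congrArg Subtype.val this
    · intro hz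
      have : z = 0 := Subtype.ext hz
      rw [this]
      exact map_zero _
  | succ n =>
    exact CombRes.Data.θ_eq_zero_iff h (AcyclicBC.acyclic F U hF hU) n _

/-- Base change for flat modules with flat cohomology: the map `β` on `H^p` is the one induced by pulling back
ordered Čech cocycles for the covering `U`. -/
theorem exists_bc_cover {X Y S T : Scheme.{u}} {f : T ⟶ S} {g : Y ⟶ X} {iX : X ⟶ S} {iY : Y ⟶ T}
    (H : IsPullback g iY iX f) [IsAffine S] [IsAffine T] (F : X.Modules)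
    (hF : Coh.IsQCoh F) (hfl : FlatMod.IsFlatOver iX F) (U : ι → X.Opens) (hcov : ⨆ i, U i = ⊤)
    (hU : ∀ s : Finset ι, s.Nonempty → IsAffineOpen (s.inf U))
    (hH : ∀ p, letI := modH iX F p; Module.Flat Γ(S, ⊤) (Coh.HH X F p)) (p : ℕ) :
    letI := algOver f (US := ⊤) (UT := ⊤) le_top
    letI := fun n => modC iX F U n
    letI := fun n => modC iY ((Scheme.Modules.pullback g).obj F) (pre g U) n
    letI := modH iX F p
    letI := modH iY ((Scheme.Modules.pullback g).obj F) p
    ∃ β : Coh.HH X F p →ₛₗ[algebraMap Γ(S, ⊤) Γ(T, ⊤)] Coh.HH Y ((Scheme.Modules.pullback g).obj F) p,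
      (∀ z : LinearMap.ker (d iX F U p), β (thetaL iX F U hcov p z) =
        thetaL iY ((Scheme.Modules.pullback g).obj F) (pre g U) (pre_cover g U hcov) p
          (BetaAlg.sZ (C := fun n => C F U n) (C' := fun n => C ((Scheme.Modules.pullback g).obj F) (pre g U) n)
            (fun n => sC U H.w F n) (fun n x => d_sC U H.w F n x) p z)) ∧
      Function.Bijective (bc β) := by
  let i0 := algOver f (US := ⊤) (UT := ⊤) le_top
  let i1 := fun n => modC iX F U n
  let i2 := fun n => modC iY ((Scheme.Modules.pullback g).obj F) (pre g U) n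
  let i3 := modH iX F p
  let i4 := modH iY ((Scheme.Modules.pullback g).obj F) p
  have hd : ∀ n, d iX F U (n + 1) ∘ₗ d iX F U n = 0 := fun n =>
    LinearMap.ext fun y => (cech (X := X.toPresheafedSpace.carrier) U).δ_δ n y
  have hflat : ∀ n, Module.Flat Γ(S, ⊤) (C F U n) := fun n => flat_C U F hF hfl hU n
  have hN : ∀ n, Fintype.card ι ≤ n → Subsingleton (C F U n) := fun n hn => subsingleton_C F U n hn
  have hbc : ∀ n, Function.Bijective (bc (sC U H.w F n)) := fun n => bijective_bc_sC U H F hF hU n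
  have hHq : ∀ p, Module.Flat Γ(S, ⊤) (LinearMap.ker (d iX F U p) ⧸
      FlatCxB.bz (C := fun n => C F U n) (d iX F U) p) := flat_quot iX F hF U hcov hU hH
  have hF' : Coh.IsQCoh ((Scheme.Modules.pullback g).obj F) := VarietyB.PullSec.isQCoh_pullback g F hF
  have hU' := pre_affine H U hU
  exact BetaAlg.exists_beta (C := fun n => C F U n)
    (C' := fun n => C ((Scheme.Modules.pullback g).obj F) (pre g U) n)
    (d' := fun n => d iY ((Scheme.Modules.pullback g).obj F) (pre g U) n)
    (fun n => sC U H.w F n) (fun n x => d_sC U H.w F n x) hd hflat hHq (Fintype.card ι) hN hbc p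
    (thetaL iX F U hcov p) (thetaL_surjective iX F hF U hcov hU p) (thetaL_eq_zero_iff iX F hF U hcov hU p)
    (thetaL iY ((Scheme.Modules.pullback g).obj F) (pre g U) (pre_cover g U hcov) p)
    (thetaL_surjective iY _ hF' (pre g U) (pre_cover g U hcov) hU' p)
    (thetaL_eq_zero_iff iY _ hF' (pre g U) (pre_cover g U hcov) hU' p)

end Canonical

end Groth.Agent.Pic13.H943.ModH
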