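import Groth.Agent.Pic13.H943.KCPush
import Groth.Agent.Pic13.H943.BetaAlg
import Groth.Agent.Pic13.H943.ModH
import Groth.Agent.Pic13.H958.KCFlat

/-!
# The cohomology of `KC` is finite free after every base change

`f : X ⟶ S` separated, quasi-compact, flat, `S` affine; `i : X₀ ⟶ X` a square-zero closed immersion, `w : Y ⟶ X` a
closed immersion, `Y₀ = X₀ ×_X Y`, everything flat over `S`.  If all `H^p(X, I)`, `I` the ideal module of
`i.ker ⊓ w.ker`, are finite free over `Γ(S, ⊤)`, then so are the `H^p` of all the complexes `KC` of all base changes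
of the data (`free_KC`).
-/

set_option autoImplicit false
set_option linter.unusedSectionVars false
universe u

open CategoryTheory CategoryTheory.Limits AlgebraicGeometry TopologicalSpace Opposite TensorProduct

namespace Groth.Agent.Pic13.H943.KCFree

open Groth.Agent.Fdesc.LocGen Groth.Agent.VarietyB.BCAlg
open Groth.Agent.Pic13.H958.Kil Groth.Agent.Pic13.H958.KMod Groth.Agent.Pic13.H958.AffLift
open Groth.Agent.Pic13.H958.KilBC Groth.Agent.Pic13.H958.KCBC Groth.Agent.Pic13.H958.KCFlat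
open Groth.Agent.Pic13.H958.RelUnits Groth.Agent.Pic13.H602.Rig
open Groth.Agent.Ega3B Cube CubeData CombRes CoefSys
open Groth.Agent.Pic13.H943.KCEquiv

section Alg

variable {A : Type u} [CommRing A] {C : ℕ → Type u} [∀ n, AddCommGroup (C n)]
  [∀ n, Module A (C n)] {d : ∀ n, C n →ₗ[A] C (n + 1)}

theorem bz_eq (p : ℕ) : KunnethAlg.bz d p = FlatCxB.bz d p := by
  cases p <;> rfl

variable {B : Type u} [CommRing B] [Algebra A B] {C' : ℕ → Type u} [∀ n, AddCommGroup (C' n)]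
  [∀ n, Module B (C' n)] {d' : ∀ n, C' n →ₗ[B] C' (n + 1)}
  (s : ∀ n, C n →ₛₗ[algebraMap A B] C' n) (hs : ∀ n x, d' n (s n x) = s (n + 1) (d n x))
  (hd : ∀ p, d (p + 1) ∘ₗ d p = 0) (hC : ∀ p, Module.Flat A (C p))
  (hfree : ∀ p, Module.Free A (LinearMap.ker (d p) ⧸ KunnethAlg.bz d p))
  (hfin : ∀ p, Module.Finite A (LinearMap.ker (d p) ⧸ KunnethAlg.bz d p))
  (m : ℕ) (hm : ∀ p, m ≤ p → Subsingleton (C p))
  (hbc : ∀ n, Function.Bijective (bc (s n)))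

include hs hd hC hfree hfin hm hbc in
/-- Finite free cohomology is inherited by the base changes of a bounded flat complex. -/
theorem free_of_bc (p : ℕ) : Module.Free B (LinearMap.ker (d' p) ⧸ KunnethAlg.bz d' p) ∧
    Module.Finite B (LinearMap.ker (d' p) ⧸ KunnethAlg.bz d' p) := by
  have h1 : ∀ p, Module.Free A (LinearMap.ker (d p) ⧸ FlatCxB.bz d p) := fun p => by
    rw [← bz_eq p]
    exact hfree p
  have h2 : ∀ p, Module.Finite A (LinearMap.ker (d p) ⧸ FlatCxB.bz d p) := fun p => by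
    rw [← bz_eq p]
    exact hfin p
  have hH : ∀ p, Module.Flat A (LinearMap.ker (d p) ⧸ FlatCxB.bz d p) := fun p => by
    have := h1 p
    infer_instance
  rw [bz_eq p]
  obtain ⟨β, -, hβ⟩ := BetaAlg.exists_beta s hs hd hC hH m hm hbc p (FlatCxB.bz d p).mkQ
    (Submodule.mkQ_surjective _) (fun z => Submodule.Quotient.mk_eq_zero _) (FlatCxB.bz d' p).mkQ
    (Submodule.mkQ_surjective _) (fun z => Submodule.Quotient.mk_eq_zero _)
  let e := LinearEquiv.ofBijective (bc β) hβ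
  have h3 := h1 p
  have h4 := h2 p
  exact ⟨Module.Free.of_equiv e, Module.Finite.equiv e⟩

end Alg

section General

variable {B B' : Type u} [CommRing B] [CommRing B'] [Algebra B B']
  {Z₁ Z₀₁ Y₁ Y₀₁ Z₂ Z₀₂ Y₂ Y₀₂ : Scheme.{u}} {i₁ : Z₀₁ ⟶ Z₁} {σ₁ : Y₁ ⟶ Z₁} {σ₀₁ : Y₀₁ ⟶ Z₀₁}
  {k₁ : Y₀₁ ⟶ Y₁} {i₂ : Z₀₂ ⟶ Z₂} {σ₂ : Y₂ ⟶ Z₂} {σ₀₂ : Y₀₂ ⟶ Z₀₂}
  (q₁ : Quad i₁ σ₁ σ₀₁ k₁) {b₂ : Z₂ ⟶ Z₁}
  (p : PairHom (𝟙 Z₁) σ₁ b₂ σ₂) (p₀ : PairHom (i₁ ≫ 𝟙 Z₁) σ₀₁ (i₂ ≫ b₂) σ₀₂) (hp : p₀.h ≫ i₁ = i₂ ≫ p.h)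
  {a₁ : Z₁ ⟶ Spec (CommRingCat.of B)} {a₂ : Z₂ ⟶ Spec (CommRingCat.of B')}
  (H : IsPullback p.h a₂ a₁ (sp B B')) (H₀ : IsPullback p₀.h (i₂ ≫ a₂) (i₁ ≫ a₁) (sp B B'))
  (HY : IsPullback p.k (σ₂ ≫ a₂) (σ₁ ≫ a₁) (sp B B'))
  [IsClosedImmersion i₂] [IsClosedImmersion σ₂]
  [Flat a₁] [Flat (i₁ ≫ a₁)] [Flat (σ₁ ≫ a₁)] [Flat (σ₀₁ ≫ i₁ ≫ a₁)] [QuasiCompact a₁] [IsSeparated a₁]
  (hG : ∀ n, letI : Z₁.Over (Spec (CommRingCat.of B)) := ⟨a₁⟩
    Module.Free B (Coh.HH Z₁ (ClSub.idealMod (i₁.ker ⊓ σ₁.ker)) n) ∧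
      Module.Finite B (Coh.HH Z₁ (ClSub.idealMod (i₁.ker ⊓ σ₁.ker)) n))

include q₁ p p₀ hp H H₀ HY hG in
/-- Finite free cohomology of the ideal module after base change. -/
theorem free_HH (n : ℕ) : letI : Z₂.Over (Spec (CommRingCat.of B')) := ⟨a₂⟩
    Module.Free B' (Coh.HH Z₂ (ClSub.idealMod (i₂.ker ⊓ σ₂.ker)) n) ∧
      Module.Finite B' (Coh.HH Z₂ (ClSub.idealMod (i₂.ker ⊓ σ₂.ker)) n) := by
  have := q₁.ci
  have := q₁.cσ
  let i3 : Z₁.Over (Spec (CommRingCat.of B)) := ⟨a₁⟩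
  let i4 : Z₂.Over (Spec (CommRingCat.of B')) := ⟨a₂⟩
  have h1 : CompactSpace Z₁ := QuasiCompact.compactSpace_of_compactSpace a₁
  have h2 : Z₁.IsSeparated := by
    have : IsSeparated (terminal.from Z₁) := by
      have : terminal.from Z₁ = a₁ ≫ terminal.from _ := terminal.hom_ext _ _
      rw [this]
      infer_instance
    exact ⟨this⟩
  obtain ⟨m, U, hcov, hU⟩ := AcyclicBC.exists_cover Z₁
  have hU1 : ∀ s : Finset (Fin m), s.Nonempty → IsAffineOpen ((𝟙 Z₁) ⁻¹ᵁ (s.inf U)) := hU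
  have haff : IsAffineHom p.h := MorphismProperty.of_isPullback H.flip inferInstance
  have haff2 : IsAffineHom b₂ := by
    have h3 : p.h = b₂ := (Category.comp_id _).symm.trans p.w
    rw [← h3]
    exact haff
  have hU2 : ∀ s : Finset (Fin m), s.Nonempty → IsAffineOpen (b₂ ⁻¹ᵁ (s.inf U)) :=
    fun s hs => (hU s hs).preimage b₂
  have key : ∀ r, Module.Free B (LinearMap.ker (dK a₁ (𝟙 Z₁) i₁ σ₁ U r) ⧸
      KunnethAlg.bz (fun n => dK a₁ (𝟙 Z₁) i₁ σ₁ U n) r) ∧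
      Module.Finite B (LinearMap.ker (dK a₁ (𝟙 Z₁) i₁ σ₁ U r) ⧸
      KunnethAlg.bz (fun n => dK a₁ (𝟙 Z₁) i₁ σ₁ U n) r) := by
    intro r
    obtain ⟨e⟩ := KCPush.exists_equiv_push a₁ (𝟙 Z₁) i₁ σ₁ U hcov hU1 r
    obtain ⟨g1, g2⟩ := hG r
    exact ⟨Module.Free.of_equiv e.symm, Module.Finite.equiv e.symm⟩
  obtain ⟨k1, k2⟩ := free_of_bc (fun r => KS p p₀ hp H.w U r) (d' := fun r => dK a₂ b₂ i₂ σ₂ U r)
    (fun r x => d_KS p p₀ hp H.w U r x) (dK_comp a₁ (𝟙 Z₁) i₁ σ₁ U) (flat_KC q₁ U hU1)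
    (fun r => (key r).1) (fun r => (key r).2) (Fintype.card (Fin m)) (subsingleton_KC (a₁ := a₁) U)
    (fun r => (cb_bijective_iff _).1 (bijective_cb_KS q₁ p p₀ hp H.w H H₀ HY U hU1 r)) n
  obtain ⟨e⟩ := KCPush.exists_equiv_push a₂ b₂ i₂ σ₂ U hcov hU2 n
  exact ⟨Module.Free.of_equiv e, Module.Finite.equiv e⟩

end General

section Base

variable {S X X₀ Y Y₀ : Scheme.{u}} [IsAffine S] (f : X ⟶ S) (i : X₀ ⟶ X) (w : Y ⟶ X) (w₀ : Y₀ ⟶ X₀) (k : Y₀ ⟶ Y)

theorem mul_eq_zero_of_ker {X X₀ : Scheme.{u}} (i : X₀ ⟶ X) [QuasiCompact i] (hnil : i.ker * i.ker = ⊥)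
    {V : X.Opens} (a a' : Γ(X, V)) (ha : i.app V a = 0) (ha' : i.app V a' = 0) : a * a' = 0 := by
  refine Fga.SqZero.eq_of_locally _ _ fun x hx => ?_
  obtain ⟨V', hxV', hV'⟩ := Fga.SqZero.exists_affine (X := X) (U := V) (x := x) hx
  refine ⟨V'.1, hV', hxV', ?_⟩
  have h1 : ores hV' a ∈ i.ker.ideal V' := by
    rw [Scheme.Hom.ker_apply, RingHom.mem_ker]
    exact (app_eq_zero_iff i a).mp ha V' hV'
  have h2 : ores hV' a' ∈ i.ker.ideal V' := by
    rw [Scheme.Hom.ker_apply, RingHom.mem_ker]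
    exact (app_eq_zero_iff i a').mp ha' V' hV'
  have h3 : ores hV' a * ores hV' a' ∈ (i.ker * i.ker).ideal V' := Ideal.mul_mem_mul h1 h2
  rw [hnil] at h3
  rw [map_zero, map_mul]
  exact h3

theorem quad_of [IsClosedImmersion i] [IsClosedImmersion w] (pb : IsPullback k w₀ w i)
    (hnil : i.ker * i.ker = ⊥) : Quad i w w₀ k where
  pb := pb
  ci := inferInstance
  cσ := inferInstance
  nil a a' ha ha' := mul_eq_zero_of_ker i hnil a a' ha ha'

/-- `B` as an algebra over the functions of `S`. -/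
@[reducible] noncomputable def algT {B : Type u} [CommRing B] (t : Spec (CommRingCat.of B) ⟶ S) : Algebra Γ(S, ⊤) B :=
  (t.appTop ≫ (Scheme.ΓSpecIso (CommRingCat.of B)).hom).hom.toAlgebra

theorem comp_isoSpec {B : Type u} [CommRing B] (t : Spec (CommRingCat.of B) ⟶ S) :
    letI := algT t
    t ≫ S.isoSpec.hom = sp Γ(S, ⊤) B := by
  let i1 := algT t
  have h1 : CommRingCat.ofHom (algebraMap Γ(S, ⊤) B) = t.appTop ≫ (Scheme.ΓSpecIso (CommRingCat.of B)).hom := rfl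
  rw [Scheme.isoSpec_hom, Scheme.toSpecΓ_naturality, sp, h1, Spec.map_comp, SpecMap_ΓSpecIso_hom]

/-- The base change square, over `Spec Γ(S, ⊤)`. -/
theorem isPullback_iso {X : Scheme.{u}} (f : X ⟶ S) {B : Type u} [CommRing B] (t : Spec (CommRingCat.of B) ⟶ S) :
    letI := algT t
    IsPullback (pullback.fst f t) (pullback.snd f t) (f ≫ S.isoSpec.hom) (sp Γ(S, ⊤) B) := by
  let i1 := algT t
  rw [← comp_isoSpec t]
  exact IsPullback.of_iso (IsPullback.of_hasPullback f t) (Iso.refl _) (Iso.refl _) (Iso.refl _) S.isoSpec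
    (by simp) (by simp) (by simp) (by simp)

variable [IsClosedImmersion i] [IsClosedImmersion w] (pb : IsPullback k w₀ w i) (hnil : i.ker * i.ker = ⊥)
  [QuasiCompact f] [IsSeparated f] [Flat f] [Flat (i ≫ f)] [Flat (w ≫ f)] [Flat (w₀ ≫ i ≫ f)]
  (HG : ∀ p, letI := FlatBC.modH f (ClSub.idealMod (i.ker ⊓ w.ker)) p
    Module.Free Γ(S, ⊤) (Coh.HH X (ClSub.idealMod (i.ker ⊓ w.ker)) p) ∧
      Module.Finite Γ(S, ⊤) (Coh.HH X (ClSub.idealMod (i.ker ⊓ w.ker)) p))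
  {B : Type u} [CommRing B] (t : Spec (CommRingCat.of B) ⟶ S)

/-- `w_T` is the base change of `w`. -/
theorem isPullback_wT {S X Y : Scheme.{u}} (f : X ⟶ S) (w : Y ⟶ X) (T : Over S) :
    IsPullback (wT f w T) (pullback.fst (w ≫ f) T.hom) (pullback.fst f T.hom) w := by
  refine IsPullback.of_right (h₁₂ := pullback.snd f T.hom) (v₁₃ := T.hom) (h₂₂ := f) ?_ (wT_fst f w T)
    (IsPullback.of_hasPullback f T.hom).flip
  rw [wT_snd]
  exact (IsPullback.of_hasPullback (w ≫ f) T.hom).flip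

theorem isClosedImmersion_wT {S X Y : Scheme.{u}} (f : X ⟶ S) (w : Y ⟶ X) [IsClosedImmersion w] (T : Over S) :
    IsClosedImmersion (wT f w T) :=
  MorphismProperty.of_isPullback (isPullback_wT f w T).flip inferInstance

theorem isPullback_iso' {S X Y : Scheme.{u}} [IsAffine S] (f : X ⟶ S) (w : Y ⟶ X) {B : Type u} [CommRing B]
    (t : Spec (CommRingCat.of B) ⟶ S) :
    letI := algT t
    IsPullback (pullback.fst (w ≫ f) t) (wT f w (Over.mk t) ≫ pullback.snd f t) (w ≫ f ≫ S.isoSpec.hom)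
      (sp Γ(S, ⊤) B) := by
  have h1 : wT f w (Over.mk t) ≫ pullback.snd f t = pullback.snd (w ≫ f) t := wT_snd f w (Over.mk t)
  rw [h1, ← Category.assoc]
  exact isPullback_iso (w ≫ f) t

include pb hnil HG in
/-- Finite free cohomology of the ideal module of the base change of the data. -/
theorem free_HH_base (n : ℕ) :
    letI : (pullback f t).Over (Spec (CommRingCat.of B)) := ⟨pullback.snd f t⟩
    Module.Free B (Coh.HH (pullback f t)
      (ClSub.idealMod ((wT f i (Over.mk t)).ker ⊓ (wT f w (Over.mk t)).ker)) n) ∧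
      Module.Finite B (Coh.HH (pullback f t)
        (ClSub.idealMod ((wT f i (Over.mk t)).ker ⊓ (wT f w (Over.mk t)).ker)) n) := by
  let i1 := algT t
  have c1 := isClosedImmersion_wT f i (Over.mk t)
  have c2 := isClosedImmersion_wT f w (Over.mk t)
  let p : PairHom (𝟙 X) w (pullback.fst f t) (wT f w (Over.mk t)) :=
    { h := pullback.fst f t
      k := pullback.fst (w ≫ f) t
      w := Category.comp_id _
      sq := (wT_fst f w (Over.mk t)).symm }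
  let p₀ : PairHom (i ≫ 𝟙 X) w₀ (wT f i (Over.mk t) ≫ pullback.fst f t) (wT (i ≫ f) w₀ (Over.mk t)) :=
    { h := pullback.fst (i ≫ f) t
      k := pullback.fst (w₀ ≫ i ≫ f) t
      w := by
        rw [Category.comp_id]
        exact (wT_fst f i (Over.mk t)).symm
      sq := (wT_fst (i ≫ f) w₀ (Over.mk t)).symm }
  have hp : p₀.h ≫ i = wT f i (Over.mk t) ≫ p.h := (wT_fst f i (Over.mk t)).symm
  have H : IsPullback p.h (pullback.snd f t) (f ≫ S.isoSpec.hom) (sp Γ(S, ⊤) B) := isPullback_iso f t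
  have H₀ : IsPullback p₀.h (wT f i (Over.mk t) ≫ pullback.snd f t) (i ≫ f ≫ S.isoSpec.hom) (sp Γ(S, ⊤) B) :=
    isPullback_iso' f i t
  have HY : IsPullback p.k (wT f w (Over.mk t) ≫ pullback.snd f t) (w ≫ f ≫ S.isoSpec.hom) (sp Γ(S, ⊤) B) :=
    isPullback_iso' f w t
  have f1 : Flat (i ≫ f ≫ S.isoSpec.hom) := by
    rw [← Category.assoc]
    infer_instance
  have f2 : Flat (w ≫ f ≫ S.isoSpec.hom) := by
    rw [← Category.assoc]
    infer_instance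
  have f3 : Flat (w₀ ≫ i ≫ f ≫ S.isoSpec.hom) := by
    have h1 : w₀ ≫ i ≫ f ≫ S.isoSpec.hom = (w₀ ≫ i ≫ f) ≫ S.isoSpec.hom := by simp only [Category.assoc]
    rw [h1]
    infer_instance
  refine free_HH (quad_of i w w₀ k pb hnil) p p₀ hp H H₀ HY (fun r => ?_) n
  have h2 := HG r
  rw [← ModH.modH_eq f (ClSub.idealMod (i.ker ⊓ w.ker)) r] at h2
  exact h2

include pb hnil HG in
/-- **(P2c)** -/
theorem free_KC {W : Scheme.{u}} (b : pullback f t ⟶ W) {ι : Type} [LinearOrder ι] [Fintype ι] (U : ι → W.Opens)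
    (hcov : ⨆ j, U j = ⊤) (hU : ∀ s : Finset ι, s.Nonempty → IsAffineOpen (b ⁻¹ᵁ (s.inf U))) (n : ℕ) :
    Module.Free B (LinearMap.ker (dK (pullback.snd f t) b (wT f i (Over.mk t)) (wT f w (Over.mk t)) U n) ⧸
      KunnethAlg.bz (fun r => dK (pullback.snd f t) b (wT f i (Over.mk t)) (wT f w (Over.mk t)) U r) n) ∧
    Module.Finite B (LinearMap.ker (dK (pullback.snd f t) b (wT f i (Over.mk t)) (wT f w (Over.mk t)) U n) ⧸
      KunnethAlg.bz (fun r => dK (pullback.snd f t) b (wT f i (Over.mk t)) (wT f w (Over.mk t)) U r) n) := by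
  have c1 := isClosedImmersion_wT f i (Over.mk t)
  have c2 := isClosedImmersion_wT f w (Over.mk t)
  let i2 : (pullback f t).Over (Spec (CommRingCat.of B)) := ⟨pullback.snd f t⟩
  obtain ⟨h1, h2⟩ := free_HH_base f i w w₀ k pb hnil HG t n
  obtain ⟨e⟩ := KCPush.exists_equiv_push (pullback.snd f t) b (wT f i (Over.mk t)) (wT f w (Over.mk t)) U hcov hU n
  exact ⟨Module.Free.of_equiv e.symm, Module.Finite.equiv e.symm⟩

end Base

end Groth.Agent.Pic13.H943.KCFree
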