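import Groth.Agent.Pic13.H943.ExistsCFN
import Groth.Agent.Pic13.H958.HFree
import Mathlib.LinearAlgebra.Basis.Basic

/-!
# Shrinking the base: free cohomology, universally

`exists_cfn_free`: as `exists_cfn`, with free cohomology.  `exists_hfree`: the form `H958.HFree.HFree`.
-/

set_option autoImplicit false
universe u
open CategoryTheory CategoryTheory.Limits AlgebraicGeometry Opposite TopologicalSpace TensorProduct

namespace Groth.Agent.Pic13.H943

open FlatBC ModH Groth.Agent.VarietyB.FlatH0 Groth.Agent.VarietyB.BCAlg Groth.Agent.FlatA.GenericFree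

theorem free_of_function {X Y S T : Scheme.{u}} {j : T ⟶ S} {g : Y ⟶ X} {f : X ⟶ S} {f' : Y ⟶ T}
    (H : IsPullback g f' f j) [IsAffine S] [IsAffine T] [Flat j] [IsProper f]
    {F : X.Modules} (hF : Coh.IsCoh F) {a : Γ(S, ⊤)}
    (hfr : ∀ p, letI := modH f F p; FreeAway Γ(S, ⊤) (Coh.HH X F p) a)
    (hj : ∀ t : T, j t ∈ S.basicOpen a) (p : ℕ) :
    letI := modH f' ((Scheme.Modules.pullback g).obj F) p
    Module.Free Γ(T, ⊤) (Coh.HH Y ((Scheme.Modules.pullback g).obj F) p) := by
  let i0 : Algebra Γ(S, ⊤) Γ(T, ⊤) := j.appTop.hom.toAlgebra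
  have ha : IsUnit (algebraMap Γ(S, ⊤) Γ(T, ⊤) a) := isUnit_appTop j a hj
  let i1 := modH f F p
  let i2 := modH f' ((Scheme.Modules.pullback g).obj F) p
  obtain ⟨e⟩ := exists_flatBC H F hF.1 p
  have := free_of_freeAway (R' := Γ(T, ⊤)) (hfr p) ha
  exact Module.Free.of_equiv e

/-- (SH-N), with free cohomology -/
theorem exists_cfn_free {X S : Scheme.{u}} (f : X ⟶ S) [IsProper f] [IsLocallyNoetherian S] [IsIntegral S]
    (F : X.Modules) (hF : Coh.IsCoh F) :
    ∃ V : S.Opens, (V : Set S).Nonempty ∧ ∀ V' : S.Opens, V' ≤ V → IsAffineOpen V' →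
      CFN (pullback.snd f V'.ι) ((Scheme.Modules.pullback (pullback.fst f V'.ι)).obj F) ∧
      ∀ p, letI := modH (pullback.snd f V'.ι) ((Scheme.Modules.pullback (pullback.fst f V'.ι)).obj F) p
        Module.Free Γ(V', ⊤) (Coh.HH _ ((Scheme.Modules.pullback (pullback.fst f V'.ι)).obj F) p) := by
  obtain ⟨W, hW, hxW⟩ : ∃ W : S.Opens, IsAffineOpen W ∧ genericPoint S ∈ W := by
    obtain ⟨_, ⟨W, hW, rfl⟩, hxW, -⟩ :=
      S.isBasis_affineOpens.exists_subset_of_mem_open (Set.mem_univ (genericPoint S)) isOpen_univ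
    exact ⟨W, hW, hxW⟩
  have : Nonempty W := ⟨⟨_, hxW⟩⟩
  have : IsAffine (W : Scheme.{u}) := hW
  obtain ⟨a, ha, hfl, hfr⟩ := exists_function (pullback.snd f W.ι)
    ((Scheme.Modules.pullback (pullback.fst f W.ι)).obj F)
    (Groth.Agent.FormalB.PullCoh.isCoh_pullback _ hF)
  refine ⟨W.ι ''ᵁ (W : Scheme.{u}).basicOpen a, ?_, fun V' hV' hV'a => ?_⟩
  · have h1 : (W : Scheme.{u}).basicOpen a ≠ ⊥ := fun h => ha ((basicOpen_eq_bot_iff a).mp h)
    obtain ⟨x, hx⟩ := (TopologicalSpace.Opens.ne_bot_iff_nonempty _).mp h1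
    exact ⟨W.ι x, ⟨x, hx, rfl⟩⟩
  · have hle : V' ≤ W := hV'.trans (by
      rintro _ ⟨x, -, rfl⟩
      exact x.2)
    have : IsAffine (V' : Scheme.{u}) := hV'a
    let j : (V' : Scheme.{u}) ⟶ W := S.homOfLE hle
    have hj : j ≫ W.ι = V'.ι := S.homOfLE_ι hle
    let g : pullback f V'.ι ⟶ pullback f W.ι := pullback.lift (pullback.fst f V'.ι) (pullback.snd f V'.ι ≫ j)
      (by rw [Category.assoc, hj, pullback.condition])
    have hg : g ≫ pullback.fst f W.ι = pullback.fst f V'.ι := pullback.lift_fst _ _ _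
    have H : IsPullback g (pullback.snd f V'.ι) (pullback.snd f W.ι) j := by
      refine IsPullback.of_right ?_ (pullback.lift_snd _ _ _) (IsPullback.of_hasPullback f W.ι)
      rw [hg, hj]
      exact IsPullback.of_hasPullback f V'.ι
    have hja : ∀ t : (V' : Scheme.{u}), j t ∈ (W : Scheme.{u}).basicOpen a := by
      intro t
      have h3 : W.ι (j t) = V'.ι t := congr($hj t)
      obtain ⟨x, hx, hx2⟩ := hV' t.2
      have h4 : j t = x := W.ι.isOpenEmbedding.injective (h3.trans hx2.symm)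
      rw [h4]
      exact hx
    let e : (Scheme.Modules.pullback g).obj ((Scheme.Modules.pullback (pullback.fst f W.ι)).obj F) ≅
        (Scheme.Modules.pullback (pullback.fst f V'.ι)).obj F :=
      (Scheme.Modules.pullbackComp g (pullback.fst f W.ι)).app F ≪≫ eqToIso (by rw [hg])
    refine ⟨(cfn_of_function H (Groth.Agent.FormalB.PullCoh.isCoh_pullback _ hF) hfl hfr hja).congr e, fun p => ?_⟩
    let i1 := modH (pullback.snd f V'.ι)
      ((Scheme.Modules.pullback g).obj ((Scheme.Modules.pullback (pullback.fst f W.ι)).obj F)) p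
    let i2 := modH (pullback.snd f V'.ι) ((Scheme.Modules.pullback (pullback.fst f V'.ι)).obj F) p
    have := free_of_function H (Groth.Agent.FormalB.PullCoh.isCoh_pullback _ hF) hfr hja p
    exact Module.Free.of_equiv (CFN.congrH (pullback.snd f V'.ι) e p)

/-- Free cohomology is inherited by all affine base changes. -/
theorem CFN.hfree {X S : Scheme.{u}} {f : X ⟶ S} {F : X.Modules} (h : CFN f F) [IsAffine S] [QuasiCompact f]
    [IsSeparated f] (hfree : ∀ p, letI := modH f F p; Module.Free Γ(S, ⊤) (Coh.HH X F p)) :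
    H958.HFree.HFree f F := by
  intro B _ t p
  let i0 := algOver t (US := ⊤) (UT := ⊤) le_top
  let i1 := modH f F p
  let i2 := modH (pullback.snd f t) ((Scheme.Modules.pullback (pullback.fst f t)).obj F) p
  let i3 := H958.HFree.overB f B t
  obtain ⟨β, hβ⟩ := h.exists_bc (IsPullback.of_hasPullback f t) p
  have h1 := h.fin p
  have h2 := hfree p
  let e := LinearEquiv.ofBijective _ hβ
  have h3 : Module.Free Γ(Spec (CommRingCat.of B), ⊤)
      (Coh.HH (pullback f t) ((Scheme.Modules.pullback (pullback.fst f t)).obj F) p) :=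
    Module.Free.of_equiv e
  have h4 : Module.Finite Γ(Spec (CommRingCat.of B), ⊤)
      (Coh.HH (pullback f t) ((Scheme.Modules.pullback (pullback.fst f t)).obj F) p) :=
    Module.Finite.equiv e
  let ε : Γ(Spec (CommRingCat.of B), ⊤) ≃+* B := (Scheme.ΓSpecIso (CommRingCat.of B)).commRingCatIsoToRingEquiv
  have h5 : ∀ (c : Γ(Spec (CommRingCat.of B), ⊤))
      (x : Coh.HH (pullback f t) ((Scheme.Modules.pullback (pullback.fst f t)).obj F) p), ε c • x = c • x := by
    intro c x
    have h6 : (Scheme.ΓSpecIso (CommRingCat.of B)).inv ((Scheme.ΓSpecIso (CommRingCat.of B)).hom c) = c := by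
      simp
    change (pullback.snd f t).appTop ((Scheme.ΓSpecIso (CommRingCat.of B)).inv
      ((Scheme.ΓSpecIso (CommRingCat.of B)).hom c)) • x = (pullback.snd f t).appTop c • x
    rw [h6]
  let b := (Module.Free.chooseBasis Γ(Spec (CommRingCat.of B), ⊤)
    (Coh.HH (pullback f t) ((Scheme.Modules.pullback (pullback.fst f t)).obj F) p)).mapCoeffs ε h5
  exact ⟨Module.Free.of_basis b, Module.Finite.of_basis b⟩

/-- (SH-N) in the form of `H958.HFree`. -/
theorem exists_hfree {X S : Scheme.{u}} (f : X ⟶ S) [IsProper f] [IsLocallyNoetherian S] [IsIntegral S]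
    (F : X.Modules) (hF : Coh.IsCoh F) :
    ∃ V : S.Opens, (V : Set S).Nonempty ∧ ∀ V' : S.Opens, V' ≤ V → IsAffineOpen V' →
      H958.HFree.HFree (pullback.snd f V'.ι) ((Scheme.Modules.pullback (pullback.fst f V'.ι)).obj F) := by
  obtain ⟨V, hV, h⟩ := exists_cfn_free f F hF
  refine ⟨V, hV, fun V' hV' ha => ?_⟩
  have : IsAffine (V' : Scheme.{u}) := ha
  exact (h V' hV' ha).1.hfree (h V' hV' ha).2

end Groth.Agent.Pic13.H943
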