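import Groth.Agent.Pic13.H943.ModH
import Groth.Agent.Pic13.H504.GenFlat
import Groth.Agent.Fdesc.FlatBC
import Groth.Agent.Models2.FlatIso
import Groth.Agent.FormalB.PullCoh
import Groth.Agent.FlatA.GenericFree2
import Groth.Agent.Fga.EulerIso
import Groth.Agent.CohqB.LocalQC

/-!
# Shrinking the base for a coherent module on a proper scheme

`CFN f F` (for `f : X ⟶ S`, `S` affine): `F` is coherent, flat over `S` and all `H^p(X, F)` are finite projective over
`Γ(S)`.  `CFN.bc`: stable under every base change `T ⟶ S`, `T` affine; `CFN.exists_bc`: `Γ(T) ⊗ H^p(X, F) = H^p(X_T, F_T)`.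
`exists_cfn`: for `f` proper over `S` Noetherian integral, `F` coherent, there is a nonempty open `V` of `S` with `CFN`
over all affine opens of `V`.
-/

set_option autoImplicit false
universe u
open CategoryTheory CategoryTheory.Limits AlgebraicGeometry Opposite TopologicalSpace TensorProduct

namespace Groth.Agent.Pic13.H943

open FlatBC ModH Groth.Agent.VarietyB.FlatH0 Groth.Agent.VarietyB.BCAlg Groth.Agent.FlatA.GenericFree

/-- `F` is coherent, flat over `S`, with finite projective cohomology over `Γ(S)` (used for affine `S`). -/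
structure CFN {X S : Scheme.{u}} (f : X ⟶ S) (F : X.Modules) : Prop where
  coh : Coh.IsCoh F
  flat : FlatMod.IsFlatOver f F
  fin : ∀ p, letI := modH f F p; Module.Finite Γ(S, ⊤) (Coh.HH X F p)
  proj : ∀ p, letI := modH f F p; Module.Projective Γ(S, ⊤) (Coh.HH X F p)

namespace CFN

section Map

variable {X S : Scheme.{u}} (f : X ⟶ S)

open Groth.Agent.Fga.EulerIso in
/-- Isomorphic modules have isomorphic cohomology, over the base. -/
noncomputable def congrH {F G : X.Modules} (e : F ≅ G) (p : ℕ) :
    letI := modH f F p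
    letI := modH f G p
    Coh.HH X F p ≃ₗ[Γ(S, ⊤)] Coh.HH X G p :=
  letI := modH f F p
  letI := modH f G p
  { toFun := HHab (abMap e.hom) p
    map_add' := (HHab (abMap e.hom) p).map_add
    map_smul' := fun r x => HHab_smul e.hom p (f.appTop r) x
    invFun := HHab (abMap e.inv) p
    left_inv := fun x => by
      rw [← HHab_comp, ← abMap_comp, e.hom_inv_id, abMap_id, HHab_id]
    right_inv := fun x => by
      rw [← HHab_comp, ← abMap_comp, e.inv_hom_id, abMap_id, HHab_id] }

variable {f}

theorem congr {F G : X.Modules} (e : F ≅ G) (h : CFN f F) : CFN f G := by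
  refine ⟨Groth.Agent.CohqB.LocalQC.isCoh_of_iso e h.coh, Groth.Agent.Models2.FlatIso.isFlatOver_of_iso f e h.flat, fun p => ?_, fun p => ?_⟩
  · let i1 := modH f F p
    let i2 := modH f G p
    have := h.fin p
    exact Module.Finite.equiv (congrH f e p)
  · let i1 := modH f F p
    let i2 := modH f G p
    have := h.proj p
    exact Module.Projective.of_equiv (congrH f e p)

end Map

end CFN

section Free

variable {R R' M : Type u} [CommRing R] [CommRing R'] [Algebra R R'] [AddCommGroup M] [Module R M]

theorem free_of_freeAway {a : R} (h : FreeAway R M a) (ha : IsUnit (algebraMap R R' a)) :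
    Module.Free R' (R' ⊗[R] M) := by
  let L := Localization.Away a
  let φ : L →+* R' := IsLocalization.Away.lift a ha
  let _ : Algebra L R' := φ.toAlgebra
  have : IsScalarTower R L R' := IsScalarTower.of_algebraMap_eq fun x =>
    (IsLocalization.Away.lift_eq a ha x).symm
  have h1 : Module.Free L (L ⊗[R] M) := h.free_tensor L
  have h2 : Module.Free R' (R' ⊗[L] (L ⊗[R] M)) := inferInstance
  exact Module.Free.of_equiv (AlgebraTensorModule.cancelBaseChange R L R' R' M)

theorem freeAway_of_subsingleton [Subsingleton M] (a : R) : FreeAway R M a :=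
  ⟨∅, linearIndepOn_empty R id, fun m => ⟨0, by rw [Subsingleton.elim (a ^ 0 • m) 0]; exact zero_mem _⟩⟩

end Free

namespace CFN

section BaseChange

variable {X Y S T : Scheme.{u}} {f : T ⟶ S} {g : Y ⟶ X} {iX : X ⟶ S} {iY : Y ⟶ T}
  {F : X.Modules}

theorem flatH (h : CFN iX F) (p : ℕ) :
    letI := modH iX F p
    Module.Flat Γ(S, ⊤) (Coh.HH X F p) := by
  let i1 := modH iX F p
  have := h.proj p
  exact Module.Flat.of_projective

/-- `Γ(T) ⊗ H^p(X, F) = H^p(X_T, F_T)`. -/
theorem exists_bc (h : CFN iX F) (H : IsPullback g iY iX f) [IsAffine S] [IsAffine T] [QuasiCompact iX]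
    [IsSeparated iX] (p : ℕ) :
    letI := algOver f (US := ⊤) (UT := ⊤) le_top
    letI := modH iX F p
    letI := modH iY ((Scheme.Modules.pullback g).obj F) p
    ∃ β : Coh.HH X F p →ₛₗ[algebraMap Γ(S, ⊤) Γ(T, ⊤)] Coh.HH Y ((Scheme.Modules.pullback g).obj F) p,
      Function.Bijective (bc β) := by
  have h1 : CompactSpace X := QuasiCompact.compactSpace_of_compactSpace iX
  have h2 : X.IsSeparated := by
    have : IsSeparated (terminal.from X) := by
      have : terminal.from X = iX ≫ terminal.from S := terminal.hom_ext _ _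
      rw [this]
      infer_instance
    exact ⟨this⟩
  obtain ⟨n, U, hcov, hU⟩ := Groth.Agent.Ega3B.AcyclicBC.exists_cover X
  obtain ⟨β, -, hβ⟩ := exists_bc_cover H F h.coh.1 h.flat U hcov hU h.flatH p
  exact ⟨β, hβ⟩

/-- Base change. -/
theorem bc (h : CFN iX F) (H : IsPullback g iY iX f) [IsAffine S] [IsAffine T] [QuasiCompact iX]
    [IsSeparated iX] : CFN iY ((Scheme.Modules.pullback g).obj F) := by
  let i0 := algOver f (US := ⊤) (UT := ⊤) le_top
  refine ⟨Groth.Agent.FormalB.PullCoh.isCoh_pullback g h.coh,
    fun y => Groth.Agent.Fdesc.FlatBC.isFlatOverAt_pullback H F y (h.flat (g y)), fun p => ?_, fun p => ?_⟩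
  · let i1 := modH iX F p
    let i2 := modH iY ((Scheme.Modules.pullback g).obj F) p
    obtain ⟨β, hβ⟩ := h.exists_bc H p
    have := h.fin p
    exact Module.Finite.equiv (LinearEquiv.ofBijective _ hβ)
  · let i1 := modH iX F p
    let i2 := modH iY ((Scheme.Modules.pullback g).obj F) p
    obtain ⟨β, hβ⟩ := h.exists_bc H p
    have := h.proj p
    exact Module.Projective.of_equiv (LinearEquiv.ofBijective _ hβ)

end BaseChange

end CFN

end Groth.Agent.Pic13.H943
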