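import Groth.Agent.Pic13.H943.CFN

/-!
# Existence of a good shrinking of the base for a coherent module on a proper scheme
-/

set_option autoImplicit false
universe u
open CategoryTheory CategoryTheory.Limits AlgebraicGeometry Opposite TopologicalSpace TensorProduct

namespace Groth.Agent.Pic13.H943

open FlatBC ModH Groth.Agent.VarietyB.FlatH0 Groth.Agent.VarietyB.BCAlg Groth.Agent.FlatA.GenericFree

open Groth.Agent.Pic13.H504.GenFlat

/-- One function on an affine Noetherian integral base. -/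
theorem exists_function {X S : Scheme.{u}} (f : X ⟶ S) [IsProper f] [IsAffine S] [IsLocallyNoetherian S] [IsIntegral S]
    (F : X.Modules) (hF : Coh.IsCoh F) :
    ∃ a : Γ(S, ⊤), a ≠ 0 ∧ (∀ x : X, f x ∈ S.basicOpen a → FlatMod.IsFlatOverAt f F x) ∧
      ∀ p, letI := modH f F p; FreeAway Γ(S, ⊤) (Coh.HH X F p) a := by
  have : IsNoetherianRing Γ(S, ⊤) := IsLocallyNoetherian.component_noetherian ⟨⊤, isAffineOpen_top S⟩
  have h1 : CompactSpace X := QuasiCompact.compactSpace_of_compactSpace f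
  have h2 : X.IsSeparated := by
    have : IsSeparated (terminal.from X) := by
      have : terminal.from X = f ≫ terminal.from S := terminal.hom_ext _ _
      rw [this]
      infer_instance
    exact ⟨this⟩
  obtain ⟨a₁, ha₁, hfl⟩ := exists_isFlatOverAt' f F hF
  obtain ⟨m, hm⟩ := exists_subsingleton_HH X
  have h3 : ∀ p, ∃ b : Γ(S, ⊤), b ≠ 0 ∧ (letI := modH f F p; FreeAway Γ(S, ⊤) (Coh.HH X F p) b) := fun p => by
    let i1 := modH f F p
    have := finite_modH f F hF p
    exact exists_freeAway_of_finite (Coh.HH X F p)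
  choose b hb hfr using h3
  refine ⟨a₁ * ∏ p ∈ Finset.range m, b p, mul_ne_zero ha₁ (Finset.prod_ne_zero_iff.mpr fun p _ => hb p),
    fun x hx => hfl x ?_, fun p => ?_⟩
  · rw [Scheme.basicOpen_mul] at hx
    exact hx.1
  · let i1 := modH f F p
    by_cases hp : p < m
    · exact (hfr p).of_dvd ((Finset.dvd_prod_of_mem b (Finset.mem_range.mpr hp)).mul_left a₁)
    · have := hm F hF.1 p (not_lt.mp hp)
      exact freeAway_of_subsingleton _

theorem isUnit_appTop {S T : Scheme.{u}} (j : T ⟶ S) (a : Γ(S, ⊤)) (hj : ∀ t : T, j t ∈ S.basicOpen a) :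
    IsUnit (j.appTop a) := by
  refine RingedSpace.isUnit_of_isUnit_germ T.toLocallyRingedSpace.toRingedSpace ⊤ _ fun t _ => ?_
  have h2 : t ∈ T.basicOpen (j.appTop a) := by
    rw [← Scheme.preimage_basicOpen_top]
    exact hj t
  exact (Scheme.mem_basicOpen_top _ _ t).mp h2

theorem cfn_of_function {X Y S T : Scheme.{u}} {j : T ⟶ S} {g : Y ⟶ X} {f : X ⟶ S} {f' : Y ⟶ T}
    (H : IsPullback g f' f j) [IsAffine S] [IsAffine T] [IsLocallyNoetherian S] [Flat j] [IsProper f]
    {F : X.Modules} (hF : Coh.IsCoh F) {a : Γ(S, ⊤)}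
    (hfl : ∀ x : X, f x ∈ S.basicOpen a → FlatMod.IsFlatOverAt f F x)
    (hfr : ∀ p, letI := modH f F p; FreeAway Γ(S, ⊤) (Coh.HH X F p) a)
    (hj : ∀ t : T, j t ∈ S.basicOpen a) :
    CFN f' ((Scheme.Modules.pullback g).obj F) := by
  have : IsNoetherianRing Γ(S, ⊤) := IsLocallyNoetherian.component_noetherian ⟨⊤, isAffineOpen_top S⟩
  let i0 : Algebra Γ(S, ⊤) Γ(T, ⊤) := j.appTop.hom.toAlgebra
  have ha : IsUnit (algebraMap Γ(S, ⊤) Γ(T, ⊤) a) := isUnit_appTop j a hj
  refine ⟨Groth.Agent.FormalB.PullCoh.isCoh_pullback g hF,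
    fun y => Groth.Agent.Fdesc.FlatBC.isFlatOverAt_pullback H F y (hfl (g y) ?_), fun p => ?_, fun p => ?_⟩
  · have h3 : f (g y) = j (f' y) := congr($(H.w) y)
    rw [h3]
    exact hj _
  · let i1 := modH f F p
    let i2 := modH f' ((Scheme.Modules.pullback g).obj F) p
    obtain ⟨e⟩ := exists_flatBC H F hF.1 p
    have := finite_modH f F hF p
    exact Module.Finite.equiv e
  · let i1 := modH f F p
    let i2 := modH f' ((Scheme.Modules.pullback g).obj F) p
    obtain ⟨e⟩ := exists_flatBC H F hF.1 p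
    have := free_of_freeAway (R' := Γ(T, ⊤)) (hfr p) ha
    exact Module.Projective.of_equiv e

/-- (SH-N) -/
theorem exists_cfn {X S : Scheme.{u}} (f : X ⟶ S) [IsProper f] [IsLocallyNoetherian S] [IsIntegral S]
    (F : X.Modules) (hF : Coh.IsCoh F) :
    ∃ V : S.Opens, (V : Set S).Nonempty ∧ ∀ V' : S.Opens, V' ≤ V → IsAffineOpen V' →
      CFN (pullback.snd f V'.ι) ((Scheme.Modules.pullback (pullback.fst f V'.ι)).obj F) := by
  obtain ⟨W, hW, hxW⟩ : ∃ W : S.Opens, IsAffineOpen W ∧ genericPoint S ∈ W := by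
    obtain ⟨_, ⟨W, hW, rfl⟩, hxW, -⟩ :=
      S.isBasis_affineOpens.exists_subset_of_mem_open (Set.mem_univ (genericPoint S)) isOpen_univ
    exact ⟨W, hW, hxW⟩
  have : Nonempty W := ⟨⟨_, hxW⟩⟩
  have : IsAffine (W : Scheme.{u}) := hW
  obtain ⟨a, ha, hfl, hfr⟩ := exists_function (pullback.snd f W.ι)
    ((Scheme.Modules.pullback (pullback.fst f W.ι)).obj F)
    (Groth.Agent.FormalB.PullCoh.isCoh_pullback _ hF)
  refine ⟨W.ι ''ᵁ (W : Scheme.{u}).basicOpen a, ?_, fun V' hV' hV'a => ?_⟩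
  · have h1 : (W : Scheme.{u}).basicOpen a ≠ ⊥ := fun h => ha ((basicOpen_eq_bot_iff a).mp h)
    obtain ⟨x, hx⟩ := (TopologicalSpace.Opens.ne_bot_iff_nonempty _).mp h1
    exact ⟨W.ι x, ⟨x, hx, rfl⟩⟩
  · have hle : V' ≤ W := hV'.trans (by
      rintro _ ⟨x, -, rfl⟩
      exact x.2)
    have : IsAffine (V' : Scheme.{u}) := hV'a
    let j : (V' : Scheme.{u}) ⟶ W := S.homOfLE hle
    have hj : j ≫ W.ι = V'.ι := S.homOfLE_ι hle
    let g : pullback f V'.ι ⟶ pullback f W.ι := pullback.lift (pullback.fst f V'.ι) (pullback.snd f V'.ι ≫ j)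
      (by rw [Category.assoc, hj, pullback.condition])
    have hg : g ≫ pullback.fst f W.ι = pullback.fst f V'.ι := pullback.lift_fst _ _ _
    have H : IsPullback g (pullback.snd f V'.ι) (pullback.snd f W.ι) j := by
      refine IsPullback.of_right ?_ (pullback.lift_snd _ _ _) (IsPullback.of_hasPullback f W.ι)
      rw [hg, hj]
      exact IsPullback.of_hasPullback f V'.ι
    have h2 := cfn_of_function H (Groth.Agent.FormalB.PullCoh.isCoh_pullback _ hF) hfl hfr (by
      intro t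
      have h3 : W.ι (j t) = V'.ι t := congr($hj t)
      obtain ⟨x, hx, hx2⟩ := hV' t.2
      have h4 : j t = x := W.ι.isOpenEmbedding.injective (h3.trans hx2.symm)
      rw [h4]
      exact hx)
    exact h2.congr ((Scheme.Modules.pullbackComp g (pullback.fst f W.ι)).app F ≪≫
      eqToIso (by rw [hg]))

end Groth.Agent.Pic13.H943
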