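import Groth.Agent.Ega3B.AcyclicBC
import Groth.Agent.Ega3B.FlatCohBC

/-!
# Base change for flat quasi-coherent modules with flat cohomology, canonical form

`iX : X ⟶ S` quasi-compact and separated, `S` affine, `F` quasi-coherent and flat over `S` with all `H^p(X, F)` flat over
`Γ(S, ⊤)`.  Then for every cartesian square over `T ⟶ S`, `T` affine, the map `Γ(T) ⊗ Γ(X, F) → Γ(X_T, F_T)` is bijective
(`isBC_of_flat`), and `H^p(X_T, F_T)` is again flat.
-/

set_option autoImplicit false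
universe u
open CategoryTheory CategoryTheory.Limits AlgebraicGeometry Opposite TopologicalSpace TensorProduct

namespace Groth.Agent.Pic13.H943.FlatBC

section Alg

open Groth.Agent.VarietyB.BCAlg Groth.Agent.Ega3B

variable {A : Type u} [CommRing A] {C : ℕ → Type u} [∀ n, AddCommGroup (C n)]
  [∀ n, Module A (C n)] {d : ∀ n, C n →ₗ[A] C (n + 1)}
  (hd : ∀ p, d (p + 1) ∘ₗ d p = 0) (hC : ∀ p, Module.Flat A (C p))
  (hH : ∀ p, Module.Flat A (LinearMap.ker (d p) ⧸ FlatCxB.bz d p))
  (m : ℕ) (hm : ∀ p, m ≤ p → Subsingleton (C p))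

variable {B : Type u} [CommRing B] [Algebra A B] {C' : ℕ → Type u} [∀ n, AddCommGroup (C' n)]
  [∀ n, Module B (C' n)] {d' : ∀ n, C' n →ₗ[B] C' (n + 1)}
  (s : ∀ n, C n →ₛₗ[algebraMap A B] C' n) (hs : ∀ n x, d' n (s n x) = s (n + 1) (d n x))
  (hbc : ∀ n, Function.Bijective (bc (s n)))

include hd hC hH hm hs hbc in
/-- `H^0` of the base changed complex -/
theorem bijective_bc_ker {H H' : Type u} [AddCommGroup H] [Module A H] [AddCommGroup H'] [Module B H']
    (t : H →ₛₗ[algebraMap A B] H') (i : H →ₗ[A] C 0) (i' : H' →ₗ[B] C' 0)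
    (hi : ∀ x, i' (t x) = s 0 (i x)) (hinj : Function.Injective i) (hinj' : Function.Injective i')
    (hker : Function.Exact i (d 0)) (hker' : ∀ x, d' 0 (i' x) = 0) : Function.Bijective (bc t) := by
  let e : H →ₗ[A] LinearMap.ker (d 0) := i.codRestrict _ fun x => (hker (i x)).mpr ⟨x, rfl⟩
  have he : Function.Bijective e := by
    constructor
    · intro x y hxy
      exact hinj (congrArg Subtype.val hxy)
    · rintro ⟨x, hx⟩
      obtain ⟨y, hy⟩ := (hker x).mp hx
      exact ⟨y, Subtype.ext hy⟩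
  let e' := LinearEquiv.ofBijective e he
  have h1 : i = (LinearMap.ker (d 0)).subtype ∘ₗ e := rfl
  have h2 : ∀ x, i' (bc t x) = bc (s 0) (i.lTensor B x) := bc_comm t (s 0) i i' hi
  have h3 : Function.Injective (i.lTensor B) := by
    rw [h1, LinearMap.lTensor_comp]
    exact (FlatCxB.lTensor_ker_injective hd hC hH m hm B 0).comp (e'.lTensor B).injective
  refine ⟨?_, ?_⟩
  · intro x y hxy
    apply h3
    apply (hbc 0).1
    rw [← h2, ← h2, hxy]
  · intro y
    obtain ⟨x, hx⟩ := (hbc 0).2 (i' y)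
    have h4 : (d 0).lTensor B x = 0 := (hbc 1).1 (by
      rw [← bc_comm (s 0) (s 1) (d 0) (d' 0) (hs 0), hx, hker', map_zero])
    obtain ⟨z, hz⟩ := FlatCxB.exists_of_lTensor_eq_zero hd hC hH m hm B 0 x h4
    obtain ⟨z, rfl⟩ := (e'.lTensor B).surjective z
    refine ⟨z, hinj' ?_⟩
    rw [h2, ← hx, ← hz, h1, LinearMap.lTensor_comp_apply]
    rfl

end Alg

section Main

open Groth.Agent.Ega3B Groth.Agent.Ega3B.CubeData Groth.Agent.Ega3B.CombRes Groth.Agent.Ega3B.Cube
  Groth.Agent.Ega3B.CechBC Groth.Agent.Ega3B.CechH0 Groth.Agent.Ega3B.AcyclicBC Groth.Agent.VarietyB.FlatH0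
  Groth.Agent.VarietyB.BCAlg
open Groth.Agent.Fdesc

attribute [local instance 3000] LocExact.hasSheafify

variable {ι : Type} [LinearOrder ι] [Fintype ι]

/-- the cohomology as a module over `Γ(S, ⊤)`. -/
noncomputable abbrev modH {X S : Scheme.{u}} (iX : X ⟶ S) (F : X.Modules) (p : ℕ) :
    Module Γ(S, ⊤) (Coh.HH X F p) :=
  Module.compHom (Coh.HH X F p) (show Γ(S, ⊤) →+* Coh.Γtop X from iX.appTop.hom)

/-- the comparison of cycles with cohomology, linear over the base -/
theorem exists_theta {X S : Scheme.{u}} (iX : X ⟶ S) (F : X.Modules) (hF : Coh.IsQCoh F)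
    (U : ι → X.Opens) (hcov : ⨆ i, U i = ⊤)
    (hU : ∀ s : Finset ι, s.Nonempty → IsAffineOpen (s.inf U)) (p : ℕ) :
    letI := fun n => modC iX F U n
    letI := modH iX F p
    ∃ θ : LinearMap.ker (d iX F U p) →ₗ[Γ(S, ⊤)] Coh.HH X F p, Function.Surjective θ ∧
      (∀ z, θ z = 0 ↔ z ∈ FlatCxB.bz (C := fun n => C F U n) (d iX F U) p) := by
  let i1 := fun n => modC iX F U n
  let i2 := modH iX F p
  have h := cech_locGood (X := X.toPresheafedSpace.carrier) U hcov
  have hac := AcyclicBC.acyclic F U hF hU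
  let ι : LinearMap.ker (d iX F U p) →+ ((cech (X := X.toPresheafedSpace.carrier) U).δ p (Coh.toAb F).obj).ker :=
    { toFun := fun z => ⟨z.1, z.2⟩
      map_zero' := rfl
      map_add' := fun _ _ => rfl }
  let θ := (CombRes.Data.θ (Coh.toAb F) h p).comp ι
  have hθ : ∀ (r : Γ(S, ⊤)) z, θ (r • z) = r • θ z := fun r z =>
    CombRes.Data.θ_naturality h p (Coh.smulAb F (fn iX r)) (ι z)
  refine ⟨{ toFun := θ, map_add' := θ.map_add, map_smul' := hθ }, ?_, ?_⟩
  · intro x
    obtain ⟨z, hz⟩ := CombRes.Data.θ_surjective h hac p x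
    exact ⟨⟨z.1, z.2⟩, hz⟩
  · intro z
    cases p with
    | zero =>
      change CombRes.Data.θ (Coh.toAb F) h 0 (ι z) = 0 ↔ z.1 ∈ (⊥ : Submodule Γ(S, ⊤) (C F U 0))
      rw [Submodule.mem_bot]
      constructor
      · intro hz
        have := CombRes.Data.θ_zero_injective h (hz.trans (map_zero _).symm)
        exact congrArg Subtype.val this
      · intro hz
        have : ι z = 0 := Subtype.ext hz
        rw [this, map_zero]
    | succ n =>
      exact CombRes.Data.θ_eq_zero_iff h hac n (ι z)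

theorem flat_quot {X S : Scheme.{u}} (iX : X ⟶ S) (F : X.Modules) (hF : Coh.IsQCoh F)
    (U : ι → X.Opens) (hcov : ⨆ i, U i = ⊤)
    (hU : ∀ s : Finset ι, s.Nonempty → IsAffineOpen (s.inf U))
    (hH : ∀ p, letI := modH iX F p; Module.Flat Γ(S, ⊤) (Coh.HH X F p)) (p : ℕ) :
    letI := fun n => modC iX F U n
    Module.Flat Γ(S, ⊤) (LinearMap.ker (d iX F U p) ⧸ FlatCxB.bz (C := fun n => C F U n) (d iX F U) p) := by
  let i1 := fun n => modC iX F U n
  let i2 := modH iX F p
  obtain ⟨θ, h1, h2⟩ := exists_theta iX F hF U hcov hU p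
  exact FlatCohBC.flat_quot (C := fun n => C F U n) θ h1 h2 (hH p)

theorem isBC_of_cover {X Y S T : Scheme.{u}} {f : T ⟶ S} {g : Y ⟶ X} {iX : X ⟶ S} {iY : Y ⟶ T}
    (H : IsPullback g iY iX f) [IsAffine S] [IsAffine T] (F : X.Modules)
    (hF : Coh.IsQCoh F) (hfl : FlatMod.IsFlatOver iX F) (U : ι → X.Opens) (hcov : ⨆ i, U i = ⊤)
    (hU : ∀ s : Finset ι, s.Nonempty → IsAffineOpen (s.inf U))
    (hH : ∀ p, letI := modH iX F p; Module.Flat Γ(S, ⊤) (Coh.HH X F p)) :
    IsBC H.w F (US := ⊤) (UT := ⊤) le_top (UX := ⊤) le_top (UY := ⊤) le_top le_top := by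
  let i0 := algOver f (US := ⊤) (UT := ⊤) le_top
  let i1 := fun n => modC iX F U n
  let i2 := fun n => modC iY ((Scheme.Modules.pullback g).obj F) (pre g U) n
  have hd : ∀ n, d iX F U (n + 1) ∘ₗ d iX F U n = 0 := fun n =>
    LinearMap.ext fun y => (cech (X := X.toPresheafedSpace.carrier) U).δ_δ n y
  have hflat : ∀ n, Module.Flat Γ(S, ⊤) (C F U n) := fun n => flat_C U F hF hfl hU n
  have hN : ∀ n, Fintype.card ι ≤ n → Subsingleton (C F U n) := fun n hn => subsingleton_C F U n hn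
  have hbc : ∀ n, Function.Bijective (bc (sC U H.w F n)) := fun n => bijective_bc_sC U H F hF hU n
  have hHq : ∀ p, Module.Flat Γ(S, ⊤) (LinearMap.ker (d iX F U p) ⧸
      FlatCxB.bz (C := fun n => C F U n) (d iX F U) p) := flat_quot iX F hF U hcov hU hH
  let j1 := modV iX F ⊤
  let j2 := modV iY ((Scheme.Modules.pullback g).obj F) ⊤
  exact bijective_bc_ker (C := fun n => C F U n) (C' := fun n => C ((Scheme.Modules.pullback g).obj F) (pre g U) n)
    (d' := fun n => d iY ((Scheme.Modules.pullback g).obj F) (pre g U) n) hd hflat hHq (Fintype.card ι) hN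
    (fun n => sC U H.w F n) (fun n x => d_sC U H.w F n x) hbc
    (secS H.w F (US := ⊤) (UT := ⊤) le_top (UX := ⊤) le_top (UY := ⊤) le_top le_top)
    (resL iX F U) (resL iY ((Scheme.Modules.pullback g).obj F) (pre g U))
    (fun x => funext fun b => VarietyB.PullSec.sec_res g F _ _ _ _ x)
    (resC_injective F U hcov) (resC_injective _ (pre g U) (pre_cover g U hcov))
    (exact_resL iX F U hcov) (fun x => δ_resC _ (pre g U) x)

/-- **Base change of `H^0`** for flat modules with flat cohomology. -/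
theorem isBC_of_flat {X Y S T : Scheme.{u}} {f : T ⟶ S} {g : Y ⟶ X} {iX : X ⟶ S} {iY : Y ⟶ T}
    (H : IsPullback g iY iX f) [IsAffine S] [IsAffine T] [QuasiCompact iX] [IsSeparated iX]
    (F : X.Modules) (hF : Coh.IsQCoh F) (hfl : FlatMod.IsFlatOver iX F)
    (hH : ∀ p, letI := modH iX F p; Module.Flat Γ(S, ⊤) (Coh.HH X F p)) :
    IsBC H.w F (US := ⊤) (UT := ⊤) le_top (UX := ⊤) le_top (UY := ⊤) le_top le_top := by
  have h1 : CompactSpace X := QuasiCompact.compactSpace_of_compactSpace iX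
  have h2 : X.IsSeparated := by
    have : IsSeparated (terminal.from X) := by
      have : terminal.from X = iX ≫ terminal.from S := terminal.hom_ext _ _
      rw [this]
      infer_instance
    exact ⟨this⟩
  obtain ⟨n, U, hcov, hU⟩ := exists_cover X
  exact isBC_of_cover H F hF hfl U hcov hU hH

end Main

end Groth.Agent.Pic13.H943.FlatBC
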