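import Groth.Agent.Pic13.H958.KMod
import Groth.Agent.Ega3B.KunnethGeo2
import Groth.Agent.Fga.SqZero

/-!
# The cohomology of the complex `KC`

`i : Z₀ ⟶ W`, `σ : Y ⟶ W` closed immersions, `a : W ⟶ Spec B`. The complex `KC a (𝟙 W) i σ U` of the ordered
Čech cochains with values in the functions vanishing on `Z₀` and `Y` computes the cohomology of the ideal
module of `i.ker ⊓ σ.ker`, linearly over `B` (`exists_equiv`).
-/

set_option autoImplicit false
set_option linter.unusedSectionVars false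
universe u

open CategoryTheory CategoryTheory.Limits AlgebraicGeometry TopologicalSpace Opposite

namespace Groth.Agent.Pic13.H943.KCEquiv

open Groth.Agent.Ega3B.KunnethSec Groth.Agent.Ega3B.FlatCohBC Groth.Agent.Ega3B.KunnethGeo
open Groth.Agent.Fdesc.LocGen Groth.Agent.Picfga.LineDescent
open Groth.Agent.Pic13.H958.Kil Groth.Agent.Pic13.H958.KMod Groth.Agent.Pic13.H958.AffLift
open Groth.Agent.Ega3B Cube CubeData CombRes CoefSys

/-- Vanishing of the pullback of a function is local. -/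
theorem app_eq_zero_iff {X Y : Scheme.{u}} (h : Y ⟶ X) {V : X.Opens} (a : Γ(X, V)) :
    h.app V a = 0 ↔ ∀ (V' : X.affineOpens) (hV : V'.1 ≤ V), h.app V'.1 (ores hV a) = 0 := by
  constructor
  · intro ha V' hV
    rw [Picfga.LineDescent.app_ores, ha, map_zero]
  · intro H
    refine Fga.SqZero.eq_of_locally _ _ fun y hy => ?_
    obtain ⟨V', hyV', hV'⟩ := Fga.SqZero.exists_affine (X := X) (U := V) (x := h y) hy
    refine ⟨h ⁻¹ᵁ V'.1, h.preimage_mono hV', hyV', ?_⟩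
    rw [map_zero]
    exact (Picfga.LineDescent.app_ores h hV' a).symm.trans (H V' hV')

section Cmp

variable {W Z₀ Y : Scheme.{u}} (i : Z₀ ⟶ W) (σ : Y ⟶ W)

theorem subschemeι_app_eq_zero_iff [QuasiCompact i] [QuasiCompact σ] {V : W.Opens} (a : Γ(W, V)) :
    (i.ker ⊓ σ.ker).subschemeι.app V a = 0 ↔ i.app V a = 0 ∧ σ.app V a = 0 := by
  rw [app_eq_zero_iff, app_eq_zero_iff i, app_eq_zero_iff σ, ← forall_and]
  refine forall_congr' fun V' => ?_
  rw [← forall_and]
  refine forall_congr' fun hV => ?_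
  have h1 : ores hV a ∈ (i.ker ⊓ σ.ker).ideal V' ↔ ores hV a ∈ i.ker.ideal V' ∧ ores hV a ∈ σ.ker.ideal V' :=
    Iff.rfl
  rw [Scheme.Hom.ker_apply, Scheme.Hom.ker_apply, RingHom.mem_ker, RingHom.mem_ker] at h1
  rw [← Scheme.IdealSheafData.ker_subschemeι_app, RingHom.mem_ker] at h1
  exact h1

variable [QuasiCompact i] [QuasiCompact σ]

/-- The comparison map. -/
noncomputable def cmp : (Coh.toAb (ClSub.idealMod (i.ker ⊓ σ.ker))).obj ⟶ KP (𝟙 W) i σ where
  app V := AddCommGrpCat.ofHom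
    { toFun := fun x => kmk (b := 𝟙 W) (i := i) (σ := σ) (U := V.unop)
        (PerfA.IdealModule.val (i.ker ⊓ σ.ker) (V := V.unop) x)
        ((subschemeι_app_eq_zero_iff i σ _).mp (Fga.SqZero.app_val (i.ker ⊓ σ.ker) (U := V.unop) x)).1
        ((subschemeι_app_eq_zero_iff i σ _).mp (Fga.SqZero.app_val (i.ker ⊓ σ.ker) (U := V.unop) x)).2
      map_zero' := by
        apply kval_injective
        exact PerfA.IdealModule.val_zero (i.ker ⊓ σ.ker) (V := V.unop)
      map_add' := fun x y => by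
        apply kval_injective
        exact Fga.SqZero.ival_add (i.ker ⊓ σ.ker) (U := V.unop) x y }
  naturality V V' h := by
    ext x
    apply kval_injective
    exact PerfA.IdealModule.val_res (i.ker ⊓ σ.ker) (leOfHom h.unop) (U := V.unop) (V := V'.unop) x

theorem kval_cmp {V : W.Opens} (x : Γ(ClSub.idealMod (i.ker ⊓ σ.ker), V)) :
    kval (b := 𝟙 W) ((cmp i σ).app (op V) x) = PerfA.IdealModule.val (i.ker ⊓ σ.ker) x := rfl

theorem cmp_injective (V : W.Opens) : Function.Injective ((cmp i σ).app (op V)) := by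
  intro x y h
  exact PerfA.IdealModule.val_injective (i.ker ⊓ σ.ker) V (congrArg (kval (b := 𝟙 W)) h)

theorem cmp_surjective (V : W.Opens) : Function.Surjective ((cmp i σ).app (op V)) := by
  intro y
  obtain ⟨x, hx⟩ := Fga.SqZero.exists_val (i.ker ⊓ σ.ker) (U := V) (kval (b := 𝟙 W) y)
    ((subschemeι_app_eq_zero_iff i σ _).mpr ⟨app_kval₀ y, app_kval y⟩)
  refine ⟨x, ?_⟩
  apply kval_injective
  exact hx

end Cmp

section Equiv

variable {B : Type u} [CommRing B] {W Z₀ Y : Scheme.{u}} [W.Over (Spec (CommRingCat.of B))] (i : Z₀ ⟶ W) (σ : Y ⟶ W)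
  [QuasiCompact i] [QuasiCompact σ] {ι : Type} [LinearOrder ι] [Fintype ι] (U : ι → W.Opens)

theorem cmp_smul (V : W.Opens) (r : B) (x : Γ(ClSub.idealMod (i.ker ⊓ σ.ker), V)) :
    (cmp i σ).app (op V) ((Coh.smulAb (ClSub.idealMod (i.ker ⊓ σ.ker)) (phi B W r)).hom.app (op V) x) =
      (smulP (b := 𝟙 W) (W ↘ Spec (CommRingCat.of B)) r).app (op V) ((cmp i σ).app (op V) x) := by
  apply kval_injective
  exact PerfA.IdealModule.val_smul (i.ker ⊓ σ.ker) _ x

/-- The comparison of cochains, linear form. -/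
noncomputable def cL (p : ℕ) : CA B (ClSub.idealMod (i.ker ⊓ σ.ker)) U p →ₗ[B]
    KC (W ↘ Spec (CommRingCat.of B)) (𝟙 W) i σ U p where
  toFun x := (cech (X := W.toPresheafedSpace.carrier) U).Kmap p (cmp i σ) x
  map_add' x y := ((cech (X := W.toPresheafedSpace.carrier) U).Kmap p (cmp i σ)).map_add x y
  map_smul' r x := by
    funext b
    exact cmp_smul i σ _ r (x b)

theorem cL_bijective (p : ℕ) : Function.Bijective (cL (B := B) i σ U p) := by
  constructor
  · intro x y h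
    funext b
    exact cmp_injective i σ _ (congrFun h b)
  · intro y
    choose x hx using fun b => cmp_surjective i σ _ (y b)
    exact ⟨x, funext hx⟩

theorem cL_d (p : ℕ) (x : CA B (ClSub.idealMod (i.ker ⊓ σ.ker)) U p) :
    dK (W ↘ Spec (CommRingCat.of B)) (𝟙 W) i σ U p (cL i σ U p x) =
      cL i σ U (p + 1) (dA B (ClSub.idealMod (i.ker ⊓ σ.ker)) U p x) :=
  Data.δ_naturality (cech (X := W.toPresheafedSpace.carrier) U) p (cmp i σ) x

/-- The comparison of cochains. -/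
noncomputable def eC (p : ℕ) : CA B (ClSub.idealMod (i.ker ⊓ σ.ker)) U p ≃ₗ[B]
    KC (W ↘ Spec (CommRingCat.of B)) (𝟙 W) i σ U p :=
  LinearEquiv.ofBijective (cL i σ U p) (cL_bijective i σ U p)

theorem eC_d (p : ℕ) (x : CA B (ClSub.idealMod (i.ker ⊓ σ.ker)) U p) :
    dK (W ↘ Spec (CommRingCat.of B)) (𝟙 W) i σ U p (eC i σ U p x) =
      eC i σ U (p + 1) (dA B (ClSub.idealMod (i.ker ⊓ σ.ker)) U p x) := cL_d i σ U p x

theorem exists_theta (hcov : ⨆ j, U j = ⊤) (hU : ∀ s : Finset ι, s.Nonempty → IsAffineOpen (s.inf U)) (p : ℕ) :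
    ∃ θ : LinearMap.ker (dK (W ↘ Spec (CommRingCat.of B)) (𝟙 W) i σ U p) →ₗ[B]
        Coh.HH W (ClSub.idealMod (i.ker ⊓ σ.ker)) p, Function.Surjective θ ∧
      ∀ z, θ z = 0 ↔ z ∈ KunnethAlg.bz (fun n => dK (W ↘ Spec (CommRingCat.of B)) (𝟙 W) i σ U n) p := by
  obtain ⟨θ', h1, h2⟩ := exists_theta_lin B (cech (X := W.toPresheafedSpace.carrier) U)
    (cech_locGood (X := W.toPresheafedSpace.carrier) U hcov) (ClSub.idealMod (i.ker ⊓ σ.ker))
    (PerfA.IdealModule.isQCoh_idealMod _) (fun n b => hU b.1 b.2.1) p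
  refine exists_theta_of_equiv _ (fun p => dA B (ClSub.idealMod (i.ker ⊓ σ.ker)) U p)
    (fun p => (eC i σ U p).symm) (fun p x => ?_) p θ' h1 h2
  rw [LinearEquiv.eq_symm_apply, ← eC_d, LinearEquiv.apply_symm_apply]

theorem exists_equiv_over (hcov : ⨆ j, U j = ⊤) (hU : ∀ s : Finset ι, s.Nonempty → IsAffineOpen (s.inf U)) (p : ℕ) :
    Nonempty ((LinearMap.ker (dK (W ↘ Spec (CommRingCat.of B)) (𝟙 W) i σ U p) ⧸
      KunnethAlg.bz (fun n => dK (W ↘ Spec (CommRingCat.of B)) (𝟙 W) i σ U n) p) ≃ₗ[B]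
        Coh.HH W (ClSub.idealMod (i.ker ⊓ σ.ker)) p) := by
  obtain ⟨θ, h1, h2⟩ := exists_theta (B := B) i σ U hcov hU p
  have hker : KunnethAlg.bz (fun n => dK (W ↘ Spec (CommRingCat.of B)) (𝟙 W) i σ U n) p = LinearMap.ker θ := by
    ext z
    rw [LinearMap.mem_ker]
    exact (h2 z).symm
  exact ⟨(Submodule.quotEquivOfEq _ _ hker).trans (θ.quotKerEquivOfSurjective h1)⟩

end Equiv

/-- **The cohomology of `KC`.** -/
theorem exists_equiv {B : Type u} [CommRing B] {W Z₀ Y : Scheme.{u}} (a : W ⟶ Spec (.of B)) (i : Z₀ ⟶ W) (σ : Y ⟶ W)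
    [IsClosedImmersion i] [IsClosedImmersion σ] {ι : Type} [LinearOrder ι] [Fintype ι] (U : ι → W.Opens)
    (hcov : ⨆ j, U j = ⊤) (hU : ∀ s : Finset ι, s.Nonempty → IsAffineOpen (s.inf U)) (p : ℕ) :
    letI : W.Over (Spec (.of B)) := ⟨a⟩
    Nonempty ((LinearMap.ker (dK a (𝟙 W) i σ U p) ⧸ KunnethAlg.bz (fun n => dK a (𝟙 W) i σ U n) p) ≃ₗ[B]
      Coh.HH W (ClSub.idealMod (i.ker ⊓ σ.ker)) p) :=
  letI : W.Over (Spec (.of B)) := ⟨a⟩
  exists_equiv_over (B := B) i σ U hcov hU p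

end Groth.Agent.Pic13.H943.KCEquiv
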