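import Groth.Agent.Pic13.H943.KCEquiv
import Groth.Agent.Ega3B.AcyclicBC

/-!
# The cohomology of the complex `KC`, for a general `b : Z ⟶ W`

The complex `KC a b i σ U` computes the cohomology of the ideal module of `i.ker ⊓ σ.ker` on `Z` whenever the
`b⁻¹(U_s)` are affine (`exists_theta`, `exists_equiv_push`).
-/

set_option autoImplicit false
set_option linter.unusedSectionVars false
universe u

open CategoryTheory CategoryTheory.Limits AlgebraicGeometry TopologicalSpace Opposite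

namespace Groth.Agent.Pic13.H943.KCPush

open Groth.Agent.Ega3B.KunnethSec Groth.Agent.Ega3B.FlatCohBC Groth.Agent.Ega3B.KunnethGeo
open Groth.Agent.Fdesc.LocGen
open Groth.Agent.Pic13.H958.Kil Groth.Agent.Pic13.H958.KMod Groth.Agent.Pic13.H958.AffLift
open Groth.Agent.Ega3B Cube CubeData CombRes CoefSys CechBC
open Groth.Agent.Pic13.H943.KCEquiv

section Coef

variable {ι : Type} [LinearOrder ι] [Fintype ι] {X X' : TopCat.{u}} (U : ι → Opens X) (U' : ι → Opens X')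
  (G : (Opens X)ᵒᵖ ⥤ AddCommGrpCat.{u}) (G' : (Opens X')ᵒᵖ ⥤ AddCommGrpCat.{u})
  (φ : ∀ s : Finset ι, G.obj (op (s.inf U)) →+ G'.obj (op (s.inf U')))
  (hφ : ∀ (s t : Finset ι) (h : s ⊆ t) (x : G.obj (op (s.inf U))),
    G'.map (homOfLE (Finset.inf_mono h : t.inf U' ≤ s.inf U')).op (φ s x) =
      φ t (G.map (homOfLE (Finset.inf_mono h : t.inf U ≤ s.inf U)).op x))

/-- Change of the coefficient system. -/
def coefMap (n : ℕ) : (cech U).K n G →+ (cech U').K n G' where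
  toFun x b := φ b.1 (x b)
  map_zero' := by funext b; exact map_zero _
  map_add' x y := by funext b; exact map_add _ _ _

include hφ in
theorem δ_coefMap (n : ℕ) (x : (cech U).K n G) :
    (cech U').δ n G' (coefMap U U' G G' φ n x) = coefMap U U' G G' φ (n + 1) ((cech U).δ n G x) := by
  rw [cech_δ_eq, cech_δ_eq]
  funext b
  change _ = φ b.1 (dl (R := ℤ) (S := NE) (k := 1) (M := fun s => G.obj (op (s.inf U)))
      (fun _ _ h => (G.map (homOfLE (Finset.inf_mono h)).op).hom.toIntLinearMap) n x b)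
  rw [dl_apply, dl_apply, map_sum]
  refine Finset.sum_congr rfl fun j _ => ?_
  rw [map_zsmul]
  congr 1
  by_cases h : NE (b.1.erase j) ∧ (b.1.erase j).card = n + 1
  · rw [evx_of h, evx_of h]
    exact hφ _ _ (Finset.erase_subset j b.1) (x ⟨_, h⟩)
  · rw [evx_of_not h, evx_of_not h, map_zero, map_zero, map_zero]

end Coef

section Push

variable {W Z Z₀ Y : Scheme.{u}} (b : Z ⟶ W) (i : Z₀ ⟶ Z) (σ : Y ⟶ Z) [QuasiCompact i] [QuasiCompact σ]

/-- Sections of the ideal module and sections of `KP`. -/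
noncomputable def cmpS {V : Z.Opens} {V' : W.Opens} (h : b ⁻¹ᵁ V' ≤ V) :
    Γ(ClSub.idealMod (i.ker ⊓ σ.ker), V) →+ (KP b i σ).obj (op V') where
  toFun x := kmk (ores h (PerfA.IdealModule.val (i.ker ⊓ σ.ker) x))
    (by
      rw [Picfga.LineDescent.app_ores, ((subschemeι_app_eq_zero_iff i σ _).mp
        (Fga.SqZero.app_val (i.ker ⊓ σ.ker) x)).1, map_zero])
    (by
      rw [Picfga.LineDescent.app_ores, ((subschemeι_app_eq_zero_iff i σ _).mp
        (Fga.SqZero.app_val (i.ker ⊓ σ.ker) x)).2, map_zero])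
  map_zero' := by
    apply kval_injective
    rw [kval_kmk, PerfA.IdealModule.val_zero, map_zero]
    rfl
  map_add' x y := by
    apply kval_injective
    rw [kval_kmk, kval_add, kval_kmk, kval_kmk, Fga.SqZero.ival_add, map_add]

theorem kval_cmpS {V : Z.Opens} {V' : W.Opens} (h : b ⁻¹ᵁ V' ≤ V)
    (x : Γ(ClSub.idealMod (i.ker ⊓ σ.ker), V)) :
    kval (cmpS b i σ h x) = ores h (PerfA.IdealModule.val (i.ker ⊓ σ.ker) x) := rfl

theorem cmpS_bijective {V : Z.Opens} {V' : W.Opens} (h : b ⁻¹ᵁ V' = V) :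
    Function.Bijective (cmpS b i σ h.le) := by
  subst h
  constructor
  · intro x y hxy
    have h1 := congrArg kval hxy
    rw [kval_cmpS, kval_cmpS, ores_refl, ores_refl] at h1
    exact PerfA.IdealModule.val_injective (i.ker ⊓ σ.ker) _ h1
  · intro y
    obtain ⟨x, hx⟩ := Fga.SqZero.exists_val (i.ker ⊓ σ.ker) (kval y)
      ((subschemeι_app_eq_zero_iff i σ _).mpr ⟨app_kval₀ y, app_kval y⟩)
    refine ⟨x, ?_⟩
    apply kval_injective
    rw [kval_cmpS, ores_refl]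
    exact hx

theorem cmpS_res {V₁ V₂ : Z.Opens} {V₁' V₂' : W.Opens} (h₁ : b ⁻¹ᵁ V₁' ≤ V₁) (h₂ : b ⁻¹ᵁ V₂' ≤ V₂)
    (h : V₂ ≤ V₁) (h' : V₂' ≤ V₁') (x : Γ(ClSub.idealMod (i.ker ⊓ σ.ker), V₁)) :
    (KP b i σ).map (homOfLE h').op (cmpS b i σ h₁ x) =
      cmpS b i σ h₂ ((Coh.toAb (ClSub.idealMod (i.ker ⊓ σ.ker))).obj.map (homOfLE h).op x) := by
  apply kval_injective
  refine (kval_rs h' (cmpS b i σ h₁ x)).trans ?_
  rw [kval_cmpS, kval_cmpS, ores_ores]
  have h3 : PerfA.IdealModule.val (i.ker ⊓ σ.ker)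
      ((Coh.toAb (ClSub.idealMod (i.ker ⊓ σ.ker))).obj.map (homOfLE h).op x) =
        ores h (PerfA.IdealModule.val (i.ker ⊓ σ.ker) x) :=
    PerfA.IdealModule.val_res (i.ker ⊓ σ.ker) h x
  exact (ores_ores h h₂ _).symm.trans (congrArg (ores h₂) h3.symm)

end Push

section Main

variable {B : Type u} [CommRing B] {W Z Z₀ Y : Scheme.{u}} [Z.Over (Spec (CommRingCat.of B))] (b : Z ⟶ W)
  (i : Z₀ ⟶ Z) (σ : Y ⟶ Z) [QuasiCompact i] [QuasiCompact σ] {ι : Type} [LinearOrder ι] [Fintype ι]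
  (U : ι → W.Opens)

theorem cmpS_smul {V : Z.Opens} {V' : W.Opens} (h : b ⁻¹ᵁ V' ≤ V) (r : B)
    (x : Γ(ClSub.idealMod (i.ker ⊓ σ.ker), V)) :
    kval (cmpS b i σ h ((Coh.smulAb (ClSub.idealMod (i.ker ⊓ σ.ker)) (phi B Z r)).hom.app (op V) x)) =
      toSec B (Z ↘ Spec (CommRingCat.of B)) (b ⁻¹ᵁ V') r * kval (cmpS b i σ h x) := by
  have h1 : PerfA.IdealModule.val (i.ker ⊓ σ.ker)
      ((Coh.smulAb (ClSub.idealMod (i.ker ⊓ σ.ker)) (phi B Z r)).hom.app (op V) x) =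
        toSec B (Z ↘ Spec (CommRingCat.of B)) V r * PerfA.IdealModule.val (i.ker ⊓ σ.ker) x :=
    PerfA.IdealModule.val_smul (i.ker ⊓ σ.ker) _ x
  rw [kval_cmpS, kval_cmpS, h1, map_mul, ores_toSec]

/-- The comparison of cochains, linear form. -/
noncomputable def cL (p : ℕ) : CA B (ClSub.idealMod (i.ker ⊓ σ.ker)) (pre b U) p →ₗ[B]
    KC (Z ↘ Spec (CommRingCat.of B)) b i σ U p where
  toFun x := fun c => cmpS b i σ (inf_pre b U c.1).ge (x c)
  map_add' x y := by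
    funext c
    exact map_add (cmpS b i σ (inf_pre b U c.1).ge) (x c) (y c)
  map_smul' r x := by
    funext c
    apply kval_injective
    exact cmpS_smul b i σ (inf_pre b U c.1).ge r (x c)

theorem cL_bijective (p : ℕ) : Function.Bijective (cL (B := B) b i σ U p) := by
  constructor
  · intro x y h
    funext c
    exact (cmpS_bijective b i σ (inf_pre b U c.1).symm).1 (congrFun h c)
  · intro y
    choose x hx using fun c : (cech U).B p => (cmpS_bijective b i σ (inf_pre b U c.1).symm).2 (y c)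
    exact ⟨x, funext hx⟩

theorem cL_d (p : ℕ) (x : CA B (ClSub.idealMod (i.ker ⊓ σ.ker)) (pre b U) p) :
    dK (Z ↘ Spec (CommRingCat.of B)) b i σ U p (cL b i σ U p x) =
      cL b i σ U (p + 1) (dA B (ClSub.idealMod (i.ker ⊓ σ.ker)) (pre b U) p x) :=
  δ_coefMap (X := Z.toPresheafedSpace.carrier) (X' := W.toPresheafedSpace.carrier) (pre b U) U
    (Coh.toAb (ClSub.idealMod (i.ker ⊓ σ.ker))).obj (KP b i σ)
    (fun s => cmpS b i σ (inf_pre b U s).ge)
    (fun _ _ _ x => cmpS_res b i σ _ _ _ _ x) p x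

/-- The comparison of cochains. -/
noncomputable def eC (p : ℕ) : CA B (ClSub.idealMod (i.ker ⊓ σ.ker)) (pre b U) p ≃ₗ[B]
    KC (Z ↘ Spec (CommRingCat.of B)) b i σ U p :=
  LinearEquiv.ofBijective (cL b i σ U p) (cL_bijective b i σ U p)

theorem eC_d (p : ℕ) (x : CA B (ClSub.idealMod (i.ker ⊓ σ.ker)) (pre b U) p) :
    dK (Z ↘ Spec (CommRingCat.of B)) b i σ U p (eC b i σ U p x) =
      eC b i σ U (p + 1) (dA B (ClSub.idealMod (i.ker ⊓ σ.ker)) (pre b U) p x) := cL_d b i σ U p x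

theorem exists_theta (hcov : ⨆ j, U j = ⊤) (hU : ∀ s : Finset ι, s.Nonempty → IsAffineOpen (b ⁻¹ᵁ (s.inf U)))
    (p : ℕ) :
    ∃ θ : LinearMap.ker (dK (Z ↘ Spec (CommRingCat.of B)) b i σ U p) →ₗ[B]
        Coh.HH Z (ClSub.idealMod (i.ker ⊓ σ.ker)) p, Function.Surjective θ ∧
      ∀ z, θ z = 0 ↔ z ∈ KunnethAlg.bz (fun n => dK (Z ↘ Spec (CommRingCat.of B)) b i σ U n) p := by
  obtain ⟨θ', h1, h2⟩ := exists_theta_lin B (cech (X := Z.toPresheafedSpace.carrier) (pre b U))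
    (cech_locGood (X := Z.toPresheafedSpace.carrier) (pre b U) (AcyclicBC.pre_cover b U hcov))
    (ClSub.idealMod (i.ker ⊓ σ.ker)) (PerfA.IdealModule.isQCoh_idealMod _) (fun n c => by
      have h3 := hU c.1 c.2.1
      rw [← inf_pre b U c.1] at h3
      exact h3) p
  refine exists_theta_of_equiv _ (fun p => dA B (ClSub.idealMod (i.ker ⊓ σ.ker)) (pre b U) p)
    (fun p => (eC b i σ U p).symm) (fun p x => ?_) p θ' h1 h2
  rw [LinearEquiv.eq_symm_apply, ← eC_d, LinearEquiv.apply_symm_apply]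

theorem exists_equiv_over (hcov : ⨆ j, U j = ⊤)
    (hU : ∀ s : Finset ι, s.Nonempty → IsAffineOpen (b ⁻¹ᵁ (s.inf U))) (p : ℕ) :
    Nonempty ((LinearMap.ker (dK (Z ↘ Spec (CommRingCat.of B)) b i σ U p) ⧸
      KunnethAlg.bz (fun n => dK (Z ↘ Spec (CommRingCat.of B)) b i σ U n) p) ≃ₗ[B]
        Coh.HH Z (ClSub.idealMod (i.ker ⊓ σ.ker)) p) := by
  obtain ⟨θ, h1, h2⟩ := exists_theta (B := B) b i σ U hcov hU p
  have hker : KunnethAlg.bz (fun n => dK (Z ↘ Spec (CommRingCat.of B)) b i σ U n) p = LinearMap.ker θ := by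
    ext z
    rw [LinearMap.mem_ker]
    exact (h2 z).symm
  exact ⟨(Submodule.quotEquivOfEq _ _ hker).trans (θ.quotKerEquivOfSurjective h1)⟩

end Main

/-- **The cohomology of `KC`.** -/
theorem exists_equiv_push {B : Type u} [CommRing B] {W Z Z₀ Y : Scheme.{u}} (a : Z ⟶ Spec (.of B)) (b : Z ⟶ W)
    (i : Z₀ ⟶ Z) (σ : Y ⟶ Z)
    [IsClosedImmersion i] [IsClosedImmersion σ] {ι : Type} [LinearOrder ι] [Fintype ι] (U : ι → W.Opens)
    (hcov : ⨆ j, U j = ⊤) (hU : ∀ s : Finset ι, s.Nonempty → IsAffineOpen (b ⁻¹ᵁ (s.inf U))) (p : ℕ) :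
    letI : Z.Over (Spec (.of B)) := ⟨a⟩
    Nonempty ((LinearMap.ker (dK a b i σ U p) ⧸ KunnethAlg.bz (fun n => dK a b i σ U n) p) ≃ₗ[B]
      Coh.HH Z (ClSub.idealMod (i.ker ⊓ σ.ker)) p) :=
  letI : Z.Over (Spec (.of B)) := ⟨a⟩
  exists_equiv_over (B := B) b i σ U hcov hU p

end Groth.Agent.Pic13.H943.KCPush
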