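import Groth.Agent.Pic13.H138.Finite
import Groth.Agent.Etcore.DegZero

/-!
# `S4277` from the boundedness of numerically trivial modules

* `numCl k X : Subgroup (Pic X)`, the classes of numerically trivial modules (`X` proper over `k`).
* `isTauEquivZero_of_bdd`: if `numCl k X` is a bounded family then numerically trivial implies τ-equivalent to zero.
-/

set_option autoImplicit false
universe u

open CategoryTheory CategoryTheory.Limits AlgebraicGeometry

namespace Groth.Agent.Pic13.H943.TauGlue

open Groth.Agent.Grpsch.PicGrp Groth.Agent.Pic13.H138.AlgEquiv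

variable (k : Type u) [Field k] (X : Scheme.{u}) [X.Over (Spec (CommRingCat.of k))]

/-- A class is numerically trivial if its degree on every integral curve in `X` vanishes. -/
def IsNum (a : Pic X) : Prop :=
  ∀ (Y : Scheme.{u}) (i : Y ⟶ X) [IsClosedImmersion i], IsIntegral Y → topologicalKrullDim Y = 1 →
    @Etcore.DegZero.dg k _ Y ⟨i ≫ (X ↘ Spec (CommRingCat.of k))⟩ (pull i a) = 0

variable {k X}

theorem isNum_mk_iff {L : X.Modules} (hL : PicF.IsInvertible L) :
    IsNum k X (mk L hL) ↔ Pic13.IsNumEquivZero k X L := Iff.rfl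

variable (k X) in
/-- Numerically trivial classes. -/
def numCl [IsProper (X ↘ Spec (CommRingCat.of k))] : Subgroup (Pic X) where
  carrier := {a | IsNum k X a}
  one_mem' := fun Y i _ hY hdim => by
    rw [map_one]
    exact @Etcore.DegZero.dg_one k _ Y ⟨i ≫ (X ↘ Spec (CommRingCat.of k))⟩
  mul_mem' := fun {a b} ha hb Y i hi hY hdim => by
    letI : Y.Over (Spec (CommRingCat.of k)) := ⟨i ≫ (X ↘ Spec (CommRingCat.of k))⟩
    haveI : IsProper (Y ↘ Spec (CommRingCat.of k)) := inferInstanceAs (IsProper (i ≫ (X ↘ Spec (CommRingCat.of k))))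
    rw [map_mul, Etcore.DegZero.dg_mul k Y hdim, ha Y i hY hdim, hb Y i hY hdim, add_zero]
  inv_mem' := fun {a} ha Y i hi hY hdim => by
    letI : Y.Over (Spec (CommRingCat.of k)) := ⟨i ≫ (X ↘ Spec (CommRingCat.of k))⟩
    haveI : IsProper (Y ↘ Spec (CommRingCat.of k)) := inferInstanceAs (IsProper (i ≫ (X ↘ Spec (CommRingCat.of k))))
    rw [map_inv, Etcore.DegZero.dg_inv k Y hdim, ha Y i hY hdim, neg_zero]

theorem mem_numCl_iff [IsProper (X ↘ Spec (CommRingCat.of k))] {L : X.Modules} (hL : PicF.IsInvertible L) :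
    mk L hL ∈ numCl k X ↔ Pic13.IsNumEquivZero k X L := Iff.rfl

/-- **S4277 from boundedness.** -/
theorem isTauEquivZero_of_bdd [IsAlgClosed k] [IsProper (X ↘ Spec (CommRingCat.of k))]
    (h : H138.BddPic.BddPic k X (numCl k X : Set (Pic X)))
    (L : X.Modules) (hL : PicF.IsInvertible L) (hnum : Pic13.IsNumEquivZero k X L) :
    Pic13.IsTauEquivZero k X L := by
  rw [isTauEquivZero_iff_mem hL]
  exact H138.Finite.subgroup_le_tau0 h ((mem_numCl_iff hL).mpr hnum)

end Groth.Agent.Pic13.H943.TauGlue
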